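import Cfsg.Agent.Lib.FiniteGroup.S3Fpf.Basic
import Cfsg.Agent.Lib.CoprimeHHS.Basic
import Cfsg.Agent.Lib.Techniques.PPrimePCore
import Cfsg.Agent.Lib.ClosedAbelian.Basic

/-!
Fixed-point-free actions of the symmetric group of degree three on groups of order prime to three.
-/

set_option autoImplicit false
set_option linter.style.haveILetI false
set_option linter.unusedSectionVars false

namespace Cfsg.Agent.FpfS3

open Subgroup Cfsg.Agent.ClosedAbelian

universe u

variable {G : Type u} [Group G] [Finite G]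

/-- `X = O(X) N_X(S)`. -/
def Split (X S : Subgroup G) : Prop := X ≤ core X ⊔ (normalizer (S : Set G) ⊓ X)

theorem Split.exists_mul {X S : Subgroup G} (h : Split X S) {x : G} (hx : x ∈ X) :
    ∃ o ∈ core X, ∃ n ∈ normalizer (S : Set G) ⊓ X, x = o * n := by
  have hx' := h hx
  rw [← SetLike.mem_coe, coe_mul_of_right_le_normalizer_left _ _
    ((inf_le_right : normalizer (S : Set G) ⊓ X ≤ X).trans (core_normalized _))] at hx'
  obtain ⟨o, ho, n, hn, he⟩ := hx'
  exact ⟨o, ho, n, hn, he.symm⟩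

/-- An element of a 2-subgroup `S` and of an odd subgroup normalised by `S` is trivial. -/
theorem eq_one_of_two_odd {S M : Subgroup G} (hS : IsPGroup 2 ↥S) (hM : ¬ 2 ∣ Nat.card M) {x : G}
    (hxS : x ∈ S) (hxM : x ∈ M) : x = 1 :=
  (TwoEl.of_group hS hxS).eq_one_of_odd (odd_orderOf_of_mem hM hxM)

variable (D : S3Fpf.Act G) (h3 : ¬ 3 ∣ Nat.card G)

include h3 in
theorem cop : CoprimeHHS.Cop 3 D.α :=
  ⟨Nat.prime_three, MulEquiv.ext fun x => by
    rw [pow_succ, pow_succ, pow_one]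
    exact D.α3 x, h3⟩

/-- The fixed points of `α` have odd order. -/
theorem fixed_odd {x : G} (hx : D.α x = x) : Odd (orderOf x) := by
  rw [← Nat.not_even_iff_odd, even_iff_two_dvd]
  intro h
  obtain ⟨k, hk⟩ := h
  have hk0 : 0 < k := by have := orderOf_pos x; omega
  have hyy : x ^ k * x ^ k = 1 := by rw [← pow_add, ← two_mul, ← hk, pow_orderOf_eq_one]
  have hy1 : x ^ k ≠ 1 := pow_ne_one_of_lt_orderOf hk0.ne' (by omega)
  refine hy1 (D.fpf _ (by rw [map_pow, hx]) ?_)
  rw [map_pow, D.τ_eq_inv hx, inv_pow]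
  exact inv_eq_of_mul_eq_one_right hyy

theorem twoEl_fixed {x : G} (hx : D.α x = x) (h2 : TwoEl x) : x = 1 :=
  h2.eq_one_of_odd (fixed_odd D hx)

/-- A 2-group stable under `α` consists of displacements. -/
theorem exists_disp {S : Subgroup G} (hS : IsPGroup 2 ↥S) (hi : ∀ x ∈ S, D.α x ∈ S) {s : G}
    (hs : s ∈ S) : ∃ y ∈ S, y⁻¹ * D.α y = s := by
  let f : ↥S → ↥S := fun y => ⟨(y : G)⁻¹ * D.α y, mul_mem (inv_mem y.2) (hi _ y.2)⟩
  have hf : Function.Injective f := fun a b hab => by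
    have h : (a : G)⁻¹ * D.α (a : G) = (b : G)⁻¹ * D.α (b : G) := congrArg Subtype.val hab
    have h' : D.α ((b : G) * (a : G)⁻¹)⁻¹ = ((b : G) * (a : G)⁻¹)⁻¹ := by
      rw [mul_inv_rev, inv_inv, map_mul, map_inv]
      have h2 := congrArg (fun z => (a : G) * z * (D.α (b : G))⁻¹) h
      simpa [mul_assoc] using h2
    exact Subtype.ext (mul_inv_eq_one.1 (inv_eq_one.1 (twoEl_fixed D h'
      (TwoEl.of_group hS (inv_mem (mul_mem b.2 (inv_mem a.2))))))).symm
  obtain ⟨y, hy⟩ := Finite.injective_iff_surjective.1 hf ⟨s, hs⟩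
  exact ⟨y, y.2, congrArg Subtype.val hy⟩

/-- The action on the quotient by a stable normal subgroup. -/
noncomputable def quot (N : Subgroup G) [N.Normal] (hN : D.Inv N) : S3Fpf.Act (G ⧸ N) where
  α := CoprimeHHS.Inv.qAut (s := D.α) hN.1
  τ := CoprimeHHS.Inv.qAut (s := D.τ) hN.2
  α3 x := QuotientGroup.induction_on x fun g => congrArg (QuotientGroup.mk (s := N)) (D.α3 g)
  τ2 x := QuotientGroup.induction_on x fun g => congrArg (QuotientGroup.mk (s := N)) (D.τ2 g)
  rel x := QuotientGroup.induction_on x fun g => congrArg (QuotientGroup.mk (s := N)) (D.rel g)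
  fpf x := QuotientGroup.induction_on x fun g h h' => by
    obtain ⟨c, hc, hcg⟩ := (cop D h3).exists_fixed_mk (N := N) hN.1 h
    have hc' : (QuotientGroup.mk (D.τ c) : G ⧸ N) = QuotientGroup.mk c := by
      rw [← hcg] at h'
      exact h'
    rw [D.τ_eq_inv hc, QuotientGroup.mk_inv] at hc'
    rw [← hcg]
    have h2 : (QuotientGroup.mk c : G ⧸ N) * QuotientGroup.mk c = 1 := by
      nth_rw 1 [← hc']
      exact inv_mul_cancel _
    refine (twoEl_of_sq h2).eq_one_of_odd ((fixed_odd D hc).of_dvd_nat ?_)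
    exact orderOf_map_dvd (QuotientGroup.mk' N) c

theorem quot_α_mk (N : Subgroup G) [N.Normal] (hN : D.Inv N) (g : G) :
    (quot D h3 N hN).α (QuotientGroup.mk g) = QuotientGroup.mk (D.α g) := rfl

include h3 in
/-- A Sylow 2-subgroup stable under the action. -/
theorem exists_sylow : ∃ S : Sylow 2 G, D.Inv (S : Subgroup G) := by
  haveI : Fact (Nat.Prime 2) := ⟨Nat.prime_two⟩
  obtain ⟨S₀, -, -, hi, -, hc⟩ := (cop D h3).exists_sylow_ge 2 (H := ⊤) (U := ⊥)
    CoprimeHHS.Inv.top bot_le IsPGroup.of_bot CoprimeHHS.Inv.bot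
  have hTi : CoprimeHHS.Inv D.α (S₀.map D.τ.toMonoidHom) := by
    rintro _ ⟨x, hx, rfl⟩
    exact ⟨D.α (D.α x), hi _ (hi _ hx), D.rel2 x⟩
  have hTc : Nat.card (S₀.map D.τ.toMonoidHom : Subgroup G) = Nat.card S₀ :=
    (Nat.card_congr (S₀.equivMapOfInjective _ D.τ.injective).toEquiv).symm
  obtain ⟨c, -, hcf, hcT⟩ := (cop D h3).sylow_conj 2 CoprimeHHS.Inv.top le_top le_top hi hTi hc
    (hTc.trans hc)
  obtain ⟨m, hm⟩ := exists_pow_eq_self_of_coprime
    (Nat.coprime_two_left.2 (fixed_odd D hcf))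
  set d := c ^ m with hd
  have hdd : d * d = c := by
    rw [hd, ← pow_add, ← two_mul, pow_mul]; exact hm
  have hdf : D.α d = d := by rw [hd, map_pow, hcf]
  set T := S₀.map (MulAut.conj d).toMonoidHom with hT
  have hT2 : Nat.card T = 2 ^ (Nat.card G).factorization 2 := by
    rw [hT, LEBasic.card_map_conj, hc, card_top]
  refine ⟨Sylow.ofCard T hT2, ?_, ?_⟩
  · rw [Sylow.coe_ofCard]
    exact CoprimeHHS.Inv.conj hi hdf
  · rw [Sylow.coe_ofCard]
    rintro _ ⟨x, hx, rfl⟩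
    have hx' : D.τ x ∈ S₀.map (MulAut.conj c).toMonoidHom := by
      rw [hcT]; exact ⟨x, hx, rfl⟩
    obtain ⟨z, hz, hze⟩ := hx'
    refine ⟨z, hz, ?_⟩
    change d * z * d⁻¹ = D.τ (d * x * d⁻¹)
    rw [map_mul, map_mul, map_inv, D.τ_eq_inv hdf, inv_inv, ← hze]
    change d * z * d⁻¹ = d⁻¹ * (c * z * c⁻¹) * d
    rw [← hdd]
    group

/-- An element `x` with `x * x = 1` fixed by an element of odd order. -/
theorem fix_of_fix_sq {c x : G} (ho : Odd (orderOf c)) (h : c * c * x = x * (c * c)) :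
    c * x = x * c := by
  have hm : c ∈ centralizer ({x} : Set G) := mem_of_sq_mem
    (mem_centralizer_singleton_iff.2 h) ho
  exact mem_centralizer_singleton_iff.1 hm

end Cfsg.Agent.FpfS3
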