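import Cfsg.Agent.Lib.FpfS3.Basic
import Cfsg.Agent.Lib.ClosedAbelian.Functor
import Cfsg.Agent.Lib.BrauerSuzuki.ZStar
import Mathlib.GroupTheory.Perm.Cycle.Type

/-!
A central strongly closed elementary abelian subgroup whose automiser commutes with a fixed-point-free
automorphism of order three: fusion, the automiser, and the case of a trivial automiser.
-/

set_option autoImplicit false
set_option linter.style.haveILetI false
set_option linter.unusedSectionVars false

namespace Cfsg.Agent.FpfS3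

open Subgroup Cfsg.Agent.ClosedAbelian

universe u

variable {G : Type u} [Group G] [Finite G]

/-- The hypotheses on `A ≤ Z(S)`. -/
structure Data (D : S3Fpf.Act G) (S : Sylow 2 G) (A : Subgroup G) : Prop where
  three : ¬ 3 ∣ Nat.card G
  le : A ≤ (S : Subgroup G)
  central : (S : Subgroup G) ≤ centralizer (A : Set G)
  sq : ∀ a ∈ A, a * a = 1
  inv : ∀ a ∈ A, D.α a ∈ A
  norm : normalizer ((S : Subgroup G) : Set G) ≤ normalizer (A : Set G)
  base : Split (centralizer (A : Set G)) (S : Subgroup G)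
  fusion : ∀ (X : Set G) (g : G), (∀ x ∈ X, x ∈ (S : Subgroup G)) →
    (∀ x ∈ X, g * x * g⁻¹ ∈ (S : Subgroup G)) →
    ∃ n ∈ normalizer ((S : Subgroup G) : Set G), ∀ x ∈ X, g * x * g⁻¹ = n * x * n⁻¹
  auto : ∀ n ∈ normalizer (A : Set G), ∃ c, D.α c = c ∧ ∀ a ∈ A, n * a * n⁻¹ = c * a * c⁻¹

/-- `N(S) ∩ C(F)`. -/
def MX (S : Sylow 2 G) (F : Subgroup G) : Subgroup G :=
  normalizer ((S : Subgroup G) : Set G) ⊓ centralizer (F : Set G)

variable {D : S3Fpf.Act G} {S : Sylow 2 G} {A F : Subgroup G} (d : Data D S A)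
include d

theorem Data.comm {a b : G} (ha : a ∈ A) (hb : b ∈ A) : a * b = b * a :=
  (mem_centralizer_iff.1 (d.central (d.le hb)) a ha)

theorem Data.ea : Cfsg.IsElementaryAbelian 2 A :=
  ⟨⟨⟨fun x y => Subtype.ext (d.comm x.2 y.2)⟩⟩, fun a ha => by rw [pow_two]; exact d.sq a ha⟩

theorem Data.inv_eq {a : G} (ha : a ∈ A) : a⁻¹ = a := inv_eq_of_mul_eq_one_right (d.sq a ha)

theorem Data.isPGroup : IsPGroup 2 ↥A := S.2.to_le d.le

theorem Data.S_le_centralizer (hF : F ≤ A) : (S : Subgroup G) ≤ centralizer (F : Set G) :=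
  d.central.trans (Subgroup.centralizer_le hF)

theorem Data.A_le_centralizer (hF : F ≤ A) : A ≤ centralizer (F : Set G) :=
  d.le.trans (d.S_le_centralizer hF)

theorem Data.S_le_MX (hF : F ≤ A) : (S : Subgroup G) ≤ MX S F :=
  le_inf Subgroup.le_normalizer (d.S_le_centralizer hF)

theorem Data.conj_mem {n a : G} (hn : n ∈ normalizer ((S : Subgroup G) : Set G)) (ha : a ∈ A) :
    n * a * n⁻¹ ∈ A :=
  (mem_normalizer_iff.1 (d.norm hn) a).1 ha

theorem Data.apply_α {n a : G} (hn : n ∈ normalizer (A : Set G)) (ha : a ∈ A) :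
    n * D.α a * n⁻¹ = D.α (n * a * n⁻¹) := by
  obtain ⟨c, hc, hac⟩ := d.auto n hn
  rw [hac a ha, hac _ (d.inv a ha), map_mul, map_mul, map_inv, hc]

/-- An automiser element fixes what its square fixes. -/
theorem Data.fix_of_sq {n a : G} (hn : n ∈ normalizer (A : Set G)) (ha : a ∈ A)
    (h : n * (n * a * n⁻¹) * n⁻¹ = a) : n * a * n⁻¹ = a := by
  obtain ⟨c, hc, hac⟩ := d.auto n hn
  rw [hac _ ((mem_normalizer_iff.1 hn a).1 ha), hac a ha] at h
  have h' : c * c * a = a * (c * c) := by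
    calc c * c * a = c * (c * a * c⁻¹) * c⁻¹ * (c * c) := by group
      _ = a * (c * c) := by rw [h]
  rw [hac a ha, fix_of_fix_sq (fixed_odd D hc) h', mul_inv_cancel_right]

/-- An automiser element fixes what its cube fixes. -/
theorem Data.fix_of_cube {n a : G} (hn : n ∈ normalizer (A : Set G)) (ha : a ∈ A)
    (h : n * (n * (n * a * n⁻¹) * n⁻¹) * n⁻¹ = a) : n * a * n⁻¹ = a := by
  obtain ⟨c, hc, hac⟩ := d.auto n hn
  have h1 := (mem_normalizer_iff.1 hn a).1 ha
  rw [hac _ ((mem_normalizer_iff.1 hn _).1 h1), hac _ h1, hac a ha] at h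
  rw [hac a ha]
  have hm : c ^ 3 ∈ centralizer ({a} : Set G) := mem_centralizer_singleton_iff.2 (by
    calc c ^ 3 * a = c * (c * (c * a * c⁻¹) * c⁻¹) * c⁻¹ * c ^ 3 := by
          rw [pow_succ, pow_succ, pow_one]; group
      _ = a * c ^ 3 := by rw [h])
  have h3' : Nat.Coprime 3 (orderOf c) :=
    Nat.prime_three.coprime_iff_not_dvd.2 fun hd => d.three (hd.trans (orderOf_dvd_natCard c))
  obtain ⟨m, hm'⟩ := exists_pow_eq_self_of_coprime h3'
  have h2 : c ∈ centralizer ({a} : Set G) := hm' ▸ pow_mem hm m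
  rw [mem_centralizer_singleton_iff.1 h2, mul_inv_cancel_right]

/-- The order of a stable subgroup of `A` is one modulo three. -/
theorem Data.card_mod {E : Subgroup G} (hEA : E ≤ A) (hE : ∀ x ∈ E, D.α x ∈ E) :
    Nat.card E % 3 = 1 := by
  classical
  haveI : Fact (Nat.Prime 3) := ⟨Nat.prime_three⟩
  haveI := Fintype.ofFinite ↥E
  let f : Function.End ↥E := fun x => ⟨D.α x, hE x x.2⟩
  have h := Equiv.Perm.card_fixedPoints_modEq (f := f) (p := 3) (n := 1) (by
    rw [pow_one, pow_succ, pow_succ, pow_one]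
    funext x
    exact Subtype.ext (D.α3 x))
  have hu : Subsingleton ↥f.fixedPoints := ⟨fun a b => by
    have ha : ∀ c : ↥f.fixedPoints, (c : ↥E) = 1 := fun c => Subtype.ext (twoEl_fixed D
      (congrArg Subtype.val c.2) (TwoEl.of_group d.isPGroup (hEA c.1.2)))
    exact Subtype.ext ((ha a).trans (ha b).symm)⟩
  have h1 : Fintype.card ↥f.fixedPoints = 1 := by
    refine le_antisymm (Fintype.card_le_one_iff_subsingleton.2 hu) (Fintype.card_pos_iff.2 ⟨⟨1, ?_⟩⟩)
    exact Subtype.ext (map_one D.α)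
  rw [h1, ← Nat.card_eq_fintype_card] at h
  exact h

/-- A mover centralises a subgroup of index at least eight. -/
theorem Data.small {r : G} (hr : r ∈ normalizer (A : Set G))
    (hrA : r ∉ centralizer (A : Set G)) :
    Nat.card ↥(A ⊓ centralizer ({r} : Set G)) * 8 ≤ Nat.card A := by
  classical
  let ψ : ↥A →* ↥A := MonoidHom.mk'
    (fun a => ⟨r * a * r⁻¹ * (a : G)⁻¹, mul_mem ((mem_normalizer_iff.1 hr a).1 a.2) (inv_mem a.2)⟩)
    fun a b => Subtype.ext (by
      change r * (a * b : G) * r⁻¹ * (a * b : G)⁻¹ =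
        r * a * r⁻¹ * (a : G)⁻¹ * (r * b * r⁻¹ * (b : G)⁻¹)
      have h1 : (a : G)⁻¹ * (r * b * r⁻¹) = r * b * r⁻¹ * (a : G)⁻¹ :=
        d.comm (inv_mem a.2) ((mem_normalizer_iff.1 hr b).1 b.2)
      have h2 : (b : G)⁻¹ * (a : G)⁻¹ = (a : G)⁻¹ * (b : G)⁻¹ := d.comm (inv_mem b.2) (inv_mem a.2)
      calc r * (a * b : G) * r⁻¹ * (a * b : G)⁻¹
          = r * a * r⁻¹ * (r * b * r⁻¹ * ((b : G)⁻¹ * (a : G)⁻¹)) := by group
        _ = r * a * r⁻¹ * (r * b * r⁻¹ * ((a : G)⁻¹ * (b : G)⁻¹)) := by rw [h2]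
        _ = r * a * r⁻¹ * ((r * b * r⁻¹ * (a : G)⁻¹) * (b : G)⁻¹) := by group
        _ = r * a * r⁻¹ * (((a : G)⁻¹ * (r * b * r⁻¹)) * (b : G)⁻¹) := by rw [h1]
        _ = _ := by group)
  have hker : ψ.ker = (A ⊓ centralizer ({r} : Set G)).subgroupOf A := by
    ext a
    rw [MonoidHom.mem_ker, mem_subgroupOf, mem_inf, mem_centralizer_singleton_iff, Subtype.ext_iff]
    change r * a * r⁻¹ * (a : G)⁻¹ = 1 ↔ _
    rw [mul_inv_eq_one, mul_inv_eq_iff_eq_mul]
    exact ⟨fun h => ⟨a.2, h.symm⟩, fun h => h.2.symm⟩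
  have hcard : Nat.card A = Nat.card ψ.range * Nat.card ↥(A ⊓ centralizer ({r} : Set G)) := by
    rw [card_eq_card_quotient_mul_card_subgroup ψ.ker,
      Nat.card_congr (QuotientGroup.quotientKerEquivRange ψ).toEquiv]
    conv_lhs => rw [hker, Nat.card_congr (subgroupOfEquivOfLe inf_le_left).toEquiv]
  suffices 8 ≤ Nat.card ψ.range by
    rw [hcard, mul_comm]
    exact Nat.mul_le_mul_right _ this
  set R : Subgroup G := ψ.range.map A.subtype with hR
  have hRc : Nat.card R = Nat.card ψ.range := card_subtype A ψ.range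
  have hRA : R ≤ A := map_subtype_le _
  obtain ⟨k, hk⟩ := (d.isPGroup.to_le hRA).exists_card_eq
  rw [← hRc, hk]
  by_contra hlt
  have hk3 : k < 3 := by
    by_contra h
    exact hlt (Nat.pow_le_pow_right two_pos (not_lt.1 h))
  have hle4 : Nat.card R ≤ 4 := by rw [hk]; interval_cases k <;> norm_num
  -- `R` is stable under `α` and under `r`
  have hRmem : ∀ a ∈ A, r * a * r⁻¹ * a⁻¹ ∈ R := fun a ha => ⟨_, ⟨⟨a, ha⟩, rfl⟩, rfl⟩
  have hRα : ∀ x ∈ R, D.α x ∈ R := by
    rintro _ ⟨_, ⟨⟨a, ha⟩, rfl⟩, rfl⟩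
    change D.α (r * a * r⁻¹ * a⁻¹) ∈ R
    rw [map_mul, map_inv, ← d.apply_α hr ha]
    exact hRmem _ (d.inv a ha)
  have hRr : ∀ x ∈ R, r * x * r⁻¹ ∈ R := by
    rintro _ ⟨_, ⟨⟨a, ha⟩, rfl⟩, rfl⟩
    change r * (r * a * r⁻¹ * a⁻¹) * r⁻¹ ∈ R
    have := hRmem _ ((mem_normalizer_iff.1 hr a).1 ha)
    convert this using 1
    group
  have hfix : ∀ x ∈ R, r * x * r⁻¹ = x := by
    intro x hx
    by_cases hx1 : x = 1
    · subst hx1; group
    have ha1 := hRα x hx
    have ha2 := hRα _ ha1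
    have hne : ∀ {y}, y ∈ R → y ≠ 1 → D.α y ≠ y := fun hy hy1 h =>
      hy1 (twoEl_fixed D h (TwoEl.of_group d.isPGroup (hRA hy)))
    have h10 : D.α x ≠ 1 := fun h => hx1 (D.α.injective (h.trans (map_one _).symm))
    have h20 : D.α (D.α x) ≠ 1 := fun h => h10 (D.α.injective (h.trans (map_one _).symm))
    have h21 : D.α (D.α x) ≠ x := fun h => by
      have := congrArg D.α h
      rw [D.α3] at this
      exact hne hx hx1 this.symm
    have hmem : r * x * r⁻¹ = x ∨ r * x * r⁻¹ = D.α x ∨ r * x * r⁻¹ = D.α (D.α x) := by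
      by_contra! hcon
      haveI := Fintype.ofFinite G
      have hs : ({1, x, D.α x, D.α (D.α x), r * x * r⁻¹} : Finset G) ⊆
          Finset.univ.filter (fun y => y ∈ R) := by
        intro y hy
        simp only [Finset.mem_insert, Finset.mem_singleton] at hy
        rw [Finset.mem_filter]
        refine ⟨Finset.mem_univ _, ?_⟩
        rcases hy with rfl | rfl | rfl | rfl | rfl
        exacts [one_mem _, hx, ha1, ha2, hRr x hx]
      have h5 : ({1, x, D.α x, D.α (D.α x), r * x * r⁻¹} : Finset G).card = 5 := by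
        have hr1 : r * x * r⁻¹ ≠ 1 := fun h => hx1 (by simpa using h)
        rw [Finset.card_insert_of_notMem, Finset.card_insert_of_notMem,
          Finset.card_insert_of_notMem, Finset.card_insert_of_notMem, Finset.card_singleton] <;>
          simp only [Finset.mem_insert, Finset.mem_singleton, not_or]
        · exact fun h => hcon.2.2 h.symm
        · exact ⟨fun h => hne ha1 h10 h.symm, fun h => hcon.2.1 h.symm⟩
        · exact ⟨fun h => hne hx hx1 h.symm, fun h => h21 h.symm, fun h => hcon.1 h.symm⟩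
        · exact ⟨Ne.symm hx1, Ne.symm h10, Ne.symm h20, Ne.symm hr1⟩
      have h4 : (Finset.univ.filter fun y => y ∈ R).card = Nat.card R := by
        rw [Nat.card_eq_fintype_card, Fintype.card_subtype]
      have := Finset.card_le_card hs
      omega
    have hxA := hRA hx
    rcases hmem with h | h | h
    · exact h
    · exfalso
      have := d.fix_of_cube hr hxA (by
        rw [h, d.apply_α hr hxA, h, d.apply_α hr (d.inv x hxA), d.apply_α hr hxA, h, D.α3])
      exact hne hx hx1 (h.symm.trans this)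
    · exfalso
      have := d.fix_of_cube hr hxA (by
        have e1 : r * D.α (D.α x) * r⁻¹ = D.α x := by
          rw [d.apply_α hr (d.inv x hxA), d.apply_α hr hxA, h, D.α3]
        rw [h, e1, d.apply_α hr hxA, h, D.α3])
      exact h21 (h.symm.trans this)
  refine hrA (mem_centralizer_iff.2 fun a ha => ?_)
  have h1 := hfix _ (hRmem a ha)
  have h2 : r * (r * a * r⁻¹) * r⁻¹ = a := by
    have hiR := hRA (hRmem a ha)
    generalize hi : r * a * r⁻¹ * a⁻¹ = i at h1 hiR
    have hia : r * a * r⁻¹ = i * a := by rw [← hi, inv_mul_cancel_right]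
    calc r * (r * a * r⁻¹) * r⁻¹ = r * i * r⁻¹ * (r * a * r⁻¹) := by
          conv_lhs => rw [hia]
          group
      _ = i * i * a := by rw [h1, hia, mul_assoc]
      _ = a := by rw [d.sq i hiR, one_mul]
  exact (mul_inv_eq_iff_eq_mul.1 (d.fix_of_sq hr ha h2)).symm

/-- Fusion inside `C(F)`. -/
theorem Data.control (hF : F ≤ A) {g : G} (hg : g ∈ centralizer (F : Set G)) (X : Set G)
    (hX : ∀ x ∈ X, x ∈ (S : Subgroup G)) (hgX : ∀ x ∈ X, g * x * g⁻¹ ∈ (S : Subgroup G)) :
    ∃ n ∈ MX S F, ∀ x ∈ X, g * x * g⁻¹ = n * x * n⁻¹ := by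
  have hfix : ∀ x ∈ F, g * x * g⁻¹ = x := fun x hx => by
    rw [← mem_centralizer_iff.1 hg x hx, mul_inv_cancel_right]
  obtain ⟨n, hn, hn'⟩ := d.fusion (X ∪ (F : Set G)) g
    (fun x hx => hx.elim (hX x) fun h => d.le (hF h))
    (fun x hx => hx.elim (hgX x) fun h => by rw [hfix x h]; exact d.le (hF h))
  refine ⟨n, mem_inf.2 ⟨hn, mem_centralizer_iff.2 fun x hx => ?_⟩, fun x hx => hn' x (Or.inl hx)⟩
  have h := hn' x (Or.inr hx)
  rw [hfix x hx] at h
  exact eq_mul_inv_iff_mul_eq.1 h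

/-- A 2-subgroup of a subgroup containing `S` is conjugate in it into `S`. -/
theorem Data.exists_conj {X P : Subgroup G} (hSX : (S : Subgroup G) ≤ X) (hP : IsPGroup 2 ↥P)
    (hPX : P ≤ X) : ∃ c ∈ X, ∀ x ∈ P, c * x * c⁻¹ ∈ (S : Subgroup G) := by
  obtain ⟨c, hc, T, hT, hST, -, hcT⟩ := exists_conj_over S.2 hSX hP hPX
  have hTS : T = (S : Subgroup G) := S.is_maximal' hT hST
  exact ⟨c, hc, fun x hx => hTS ▸ hcT x hx⟩

theorem Data.centralizer_S_two {x : G} (hx : x ∈ centralizer ((S : Subgroup G) : Set G))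
    (h : TwoEl x) : x ∈ (S : Subgroup G) := by
  have hP : IsPGroup 2 ↥((S : Subgroup G) ⊔ zpowers x) :=
    IsPGroup.to_sup_of_normal_left' S.2 h.isPGroup (zpowers_le.2 (centralizer_le_normalizer _ hx))
  rw [← S.is_maximal' hP le_sup_left]
  exact mem_sup_right (mem_zpowers x)

/-- The elements of odd order centralising `S` lie in the odd core of `C(S)`. -/
theorem Data.odd_mem_core_centralizer {v : G} (hv : v ∈ centralizer ((S : Subgroup G) : Set G))
    (ho : Odd (orderOf v)) : v ∈ core (centralizer ((S : Subgroup G) : Set G)) := by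
  set C := centralizer ((S : Subgroup G) : Set G) with hC
  obtain ⟨P⟩ : Nonempty (Sylow 2 ↥C) := inferInstance
  have hPS : ∀ x : ↥C, x ∈ (P : Subgroup ↥C) → (x : G) ∈ (S : Subgroup G) := fun x hx => by
    obtain ⟨k, hk⟩ := P.2 ⟨x, hx⟩
    exact d.centralizer_S_two x.2 ⟨k, by
      have := congrArg Subtype.val (congrArg Subtype.val hk)
      simpa using this⟩
  have hnpc := Fusion.hasNormalPComplement_of_normalizer_le_centralizer (p := 2) P fun x _ =>
    mem_centralizer_iff.2 fun y hy => Subtype.ext (mem_centralizer_iff.1 x.2 y (hPS y hy))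
  have hodd : (⟨v, hv⟩ : ↥C) ∈ Cfsg.pResidual 2 _ :=
    PBasic.mem_pResidual (by rw [orderOf_mk]; exact Nat.coprime_two_right.2 ho)
  refine ⟨⟨v, hv⟩, PBasic.le_pPrimeCore (PBasic.pResidual_normal_inst 2 _) ?_ hodd, rfl⟩
  exact (PBasic.coprime_card_iff _).2 fun x hx => (PBasic.mem_pResidual_iff hnpc).1 hx

/-- The case of a trivial automiser, from the Z*-theorem. -/
theorem Data.split_of_trivial (hF : F ≤ A) (h : ∀ r ∈ MX S F, r ∈ centralizer (A : Set G)) :
    Split (centralizer (F : Set G)) (S : Subgroup G) := by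
  set X := centralizer (F : Set G) with hX
  have hSX : (S : Subgroup G) ≤ X := d.S_le_centralizer hF
  have hAX : A ≤ X := d.A_le_centralizer hF
  have hO : ∀ g ∈ X, ∀ a ∈ A, g * a * g⁻¹ * a⁻¹ ∈ core X := by
    intro g hg a ha
    by_cases ha1 : a = 1
    · subst ha1; simp
    have hiso : Cfsg.IsIsolated (⟨a, hAX ha⟩ : ↥X) := by
      intro k hk
      have hkc : Commute a ((k : G) * a * (k : G)⁻¹) := congrArg Subtype.val hk
      have hPX : zpowers a ⊔ zpowers ((k : G) * a * (k : G)⁻¹) ≤ X :=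
        sup_le (zpowers_le.2 (hAX ha))
          (zpowers_le.2 (mul_mem (mul_mem k.2 (hAX ha)) (inv_mem k.2)))
      have hP : IsPGroup 2 ↥(zpowers a ⊔ zpowers ((k : G) * a * (k : G)⁻¹)) :=
        IsPGroup.to_sup_of_normal_left' (twoEl_of_sq (d.sq a ha)).isPGroup
          ((twoEl_of_sq (d.sq a ha)).conj k).isPGroup
          (zpowers_le.2 (LESylow.centralizer_le_normalizer_zpowers a
            (mem_centralizer_singleton_iff.2 hkc.symm.eq)))
      obtain ⟨c, hc, hcS⟩ := d.exists_conj hSX hP hPX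
      have key : ∀ g ∈ X, g * a * g⁻¹ ∈ (S : Subgroup G) → g * a * g⁻¹ = a := fun g hg hgS => by
        obtain ⟨n, hn, hn'⟩ := d.control hF hg {a}
          (fun x hx => by rw [Set.mem_singleton_iff.1 hx]; exact d.le ha)
          (fun x hx => by rw [Set.mem_singleton_iff.1 hx]; exact hgS)
        rw [hn' a rfl, ← mem_centralizer_iff.1 (h n hn) a ha, mul_inv_cancel_right]
      have h1 := key c hc (hcS a (mem_sup_left (mem_zpowers a)))
      have h2 := key (c * k) (mul_mem hc k.2) (by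
        have := hcS _ (mem_sup_right (mem_zpowers ((k : G) * a * (k : G)⁻¹)))
        simpa [mul_assoc] using this)
      refine Subtype.ext ?_
      change (k : G) * a * (k : G)⁻¹ = a
      calc (k : G) * a * (k : G)⁻¹ = c⁻¹ * (c * k * a * (c * k)⁻¹) * c := by group
        _ = c⁻¹ * (c * a * c⁻¹) * c := by rw [h2, h1]
        _ = a := by group
    have hz := BrauerSuzuki.zStar ↥X ⟨a, hAX ha⟩ (by
      rw [orderOf_mk]
      exact orderOf_eq_prime (by rw [pow_two, d.sq a ha]) ha1) hiso ⟨g, hg⟩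
    exact ⟨_, hz, rfl⟩
  -- the Frattini argument
  have hfr : X ≤ core X ⊔ centralizer (A : Set G) := by
    intro g hg
    set M := core X ⊔ A with hM
    have hcX : A ≤ normalizer (core X : Set G) := hAX.trans (core_normalized X)
    have hM2 : ∀ P : Subgroup G, IsPGroup 2 ↥P → A ≤ P → P ≤ M → P = A := by
      intro P hP hAP hPM
      refine le_antisymm (fun x hx => ?_) hAP
      have hx' := hPM hx
      rw [hM, ← SetLike.mem_coe, coe_mul_of_right_le_normalizer_left _ _ hcX] at hx'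
      obtain ⟨o, ho, a, ha, rfl⟩ := hx'
      have ho1 : o = 1 := eq_one_of_two_odd hP (core_odd X) (by
        simpa using mul_mem hx (inv_mem (hAP ha))) ho
      simpa [ho1] using ha
    have hgM : A.map (MulAut.conj g).toMonoidHom ≤ M := by
      rintro _ ⟨a, ha, rfl⟩
      have := mul_mem (mem_sup_left (T := A) (hO g hg a ha)) (mem_sup_right (S := core X) ha)
      simpa using this
    obtain ⟨o, ho, T, hT, hAT, hTM, hoT⟩ := exists_conj_over d.isPGroup le_sup_right
      (d.isPGroup.map _) hgM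
    have hTA := hM2 T hT hAT hTM
    have hn : o * g ∈ normalizer (A : Set G) := by
      rw [← LEBasic.map_conj_eq_iff_mem_normalizer]
      refine eq_of_le_of_card_ge ?_ (LEBasic.card_map_conj A _).ge
      rintro _ ⟨a, ha, rfl⟩
      have := hTA ▸ hoT _ ⟨a, ha, rfl⟩
      simpa [mul_assoc] using this
    have hogX : o * g ∈ X := mul_mem (sup_le (core_le X) hAX ho) hg
    have hC : o * g ∈ centralizer (A : Set G) := mem_centralizer_iff.2 fun a ha => by
      have h1 := eq_one_of_two_odd d.isPGroup (core_odd X)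
        (mul_mem ((mem_normalizer_iff.1 hn a).1 ha) (inv_mem ha)) (hO _ hogX a ha)
      rw [mul_inv_eq_one, mul_inv_eq_iff_eq_mul] at h1
      exact h1.symm
    have hle : M ≤ core X ⊔ centralizer (A : Set G) :=
      sup_le_sup_left (d.A_le_centralizer le_rfl) _
    have h2 := mul_mem (inv_mem (hle ho)) (mem_sup_right (S := core X) hC)
    rwa [inv_mul_cancel_left] at h2
  set C := centralizer (A : Set G) with hC
  have hCX : C ≤ X := Subgroup.centralizer_le hF
  have hcc : core C ≤ core X := by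
    have hn : X ≤ normalizer ((core C ⊔ core X : Subgroup G) : Set G) :=
      hfr.trans (sup_le (le_trans le_sup_right Subgroup.le_normalizer)
        ((le_inf (core_normalized C) (hCX.trans (core_normalized X))).trans
          (normalizer_inf_normalizer_le_normalizer_sup _ _)))
    exact le_sup_left.trans (le_core (sup_le ((core_le C).trans hCX) (core_le X)) hn
      (sup_core_odd ((core_le C).trans hCX) (core_odd C)))
  refine hfr.trans (sup_le le_sup_left (d.base.trans (sup_le (hcc.trans le_sup_left) ?_)))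
  exact le_sup_of_le_right (inf_le_inf_left _ hCX)

end Cfsg.Agent.FpfS3
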