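import Cfsg.Agent.Lib.FpfS3.Data
import Cfsg.Agent.Lib.ClosedAbelian.Cent

/-!
The centralizers of the subgroups of `A` are `O(X) N_X(S)`.
-/

set_option autoImplicit false
set_option linter.style.haveILetI false
set_option linter.unusedSectionVars false

namespace Cfsg.Agent.FpfS3

open Subgroup Cfsg.Agent.ClosedAbelian

universe u

variable {G : Type u} [Group G] [Finite G] {D : S3Fpf.Act G} {S : Sylow 2 G} {A F : Subgroup G}

/-- The automiser is not transitive on the nontrivial cosets of `F`. -/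
theorem Data.exists_avoid (d : Data D S A) (hF : F ≤ A) (h8 : Nat.card F * 8 ≤ Nat.card A) {b : G}
    (hb : b ∈ A) (hbF : b ∉ F) :
    ∃ x ∈ A, x ∉ F ∧ ∀ n ∈ MX S F, x⁻¹ * (n * b * n⁻¹) ∉ F := by
  by_contra! h
  have hfix : ∀ n ∈ MX S F, ∀ f ∈ F, n * f * n⁻¹ = f := fun n hn f hf => by
    rw [← mem_centralizer_iff.1 (mem_inf.1 hn).2 f hf, mul_inv_cancel_right]
  have hMA : ∀ n ∈ MX S F, n ∈ normalizer (A : Set G) := fun n hn => d.norm (mem_inf.1 hn).1
  -- the fixed points of the automiser lie in `F`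
  have hsmall : ∀ a ∈ A, (∀ n ∈ MX S F, n * a * n⁻¹ = a) → a ∈ F := by
    intro a ha hfa
    by_contra haF
    obtain ⟨n, hn, hna⟩ := h a ha haF
    have hall : ∀ a' ∈ A, a' ∉ F → a⁻¹ * a' ∈ F := by
      intro a' ha' ha'F
      obtain ⟨m, hm, hma⟩ := h a' ha' ha'F
      have hk : m * n⁻¹ ∈ MX S F := mul_mem hm (inv_mem hn)
      have h1 : (m * n⁻¹) * (a⁻¹ * (n * b * n⁻¹)) * (m * n⁻¹)⁻¹ = a⁻¹ * (n * b * n⁻¹) :=
        hfix _ hk _ hna
      have h2 : (m * n⁻¹) * (a⁻¹ * (n * b * n⁻¹)) * (m * n⁻¹)⁻¹ =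
          (m * n⁻¹ * a * (m * n⁻¹)⁻¹)⁻¹ * (m * b * m⁻¹) := by group
      rw [h2, hfa _ hk] at h1
      have h3 : a⁻¹ * (m * b * m⁻¹) ∈ F := by rw [h1]; exact hna
      have h4 := mul_mem h3 (inv_mem hma)
      convert h4 using 1
      group
    have hle : A ≤ F ⊔ zpowers a := fun a' ha' => by
      by_cases ha'F : a' ∈ F
      · exact mem_sup_left ha'F
      · have := mul_mem (mem_sup_right (S := F) (mem_zpowers a)) (mem_sup_left (hall a' ha' ha'F))
        rwa [mul_inv_cancel_left] at this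
    have hn' : zpowers a ≤ normalizer (F : Set G) :=
      zpowers_le.2 (centralizer_le_normalizer _ (d.A_le_centralizer hF ha))
    have hint : F ⊓ zpowers a = ⊥ := by
      rw [eq_bot_iff]
      intro x hx
      rcases zpowers_cases (d.sq a ha) (mem_inf.1 hx).2 with rfl | rfl
      · exact one_mem _
      · exact absurd (mem_inf.1 hx).1 haF
    have h1 := Subgroup.card_le_of_le hle
    rw [SolvBasic.card_sup_of_inf_eq_bot hn' hint, Nat.card_zpowers] at h1
    have h2 : orderOf a ≤ 2 := orderOf_le_of_pow_eq_one two_pos (by rw [pow_two, d.sq a ha])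
    have h3 : 0 < Nat.card F := Nat.card_pos
    have := Nat.mul_le_mul_left (Nat.card F) h2
    omega
  have hFα : ∀ f ∈ F, D.α f ∈ F := fun f hf => hsmall _ (d.inv f (hF hf)) fun n hn => by
    rw [d.apply_α (hMA n hn) (hF hf), hfix n hn f hf]
  -- `|A/F| - 1` divides `|G|`
  let St : Subgroup G :=
    { carrier := {n | n ∈ MX S F ∧ b⁻¹ * (n * b * n⁻¹) ∈ F}
      one_mem' := ⟨one_mem _, by simp⟩
      mul_mem' := fun {n m} hn hm => ⟨mul_mem hn.1 hm.1, by
        have h1 := hfix n hn.1 _ hm.2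
        rw [show b⁻¹ * (n * m * b * (n * m)⁻¹) =
          b⁻¹ * (n * b * n⁻¹) * (n * (b⁻¹ * (m * b * m⁻¹)) * n⁻¹) by group, h1]
        exact mul_mem hn.2 hm.2⟩
      inv_mem' := fun {n} hn => ⟨inv_mem hn.1, by
        have h1 := hfix n⁻¹ (inv_mem hn.1) _ (inv_mem hn.2)
        rw [show b⁻¹ * (n⁻¹ * b * n⁻¹⁻¹) = n⁻¹ * (b⁻¹ * (n * b * n⁻¹))⁻¹ * n⁻¹⁻¹ by group, h1]
        exact inv_mem hn.2⟩ }
  haveI := d.ea.1
  have hbA : ∀ n ∈ MX S F, n * b * n⁻¹ ∈ A := fun n hn => d.conj_mem (mem_inf.1 hn).1 hb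
  let F' := F.subgroupOf A
  let f : ↥(MX S F) → ↥A ⧸ F' := fun n => QuotientGroup.mk ⟨_, hbA n n.2⟩
  have hf : ∀ n m : ↥(MX S F), f n = f m ↔ n⁻¹ * m ∈ St.subgroupOf (MX S F) := by
    intro n m
    rw [QuotientGroup.eq, mem_subgroupOf, mem_subgroupOf]
    push_cast
    constructor
    · intro hm
      refine ⟨mul_mem (inv_mem n.2) m.2, ?_⟩
      have h1 := hfix _ (inv_mem n.2) _ hm
      rw [← h1] at hm
      convert hm using 1
      group
    · intro hm
      have h1 := hfix _ n.2 _ hm.2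
      have hm' := hm.2
      rw [← h1] at hm'
      convert hm' using 1
      group
  let g : ↥(MX S F) ⧸ St.subgroupOf (MX S F) → {q : ↥A ⧸ F' // q ≠ 1} :=
    Quotient.lift (fun n => ⟨f n, fun h1 => hbF (by
      have h2 : n.1 * b * n.1⁻¹ ∈ F := mem_subgroupOf.1 ((QuotientGroup.eq_one_iff _).1 h1)
      have h3 := hfix _ (inv_mem n.2) _ h2
      rw [show n.1⁻¹ * (n.1 * b * n.1⁻¹) * n.1⁻¹⁻¹ = b by group] at h3
      rw [h3]; exact h2)⟩)
      (fun n m hnm => Subtype.ext ((hf n m).2 (QuotientGroup.leftRel_apply.1 hnm)))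
  have hg : Function.Bijective g := by
    refine ⟨fun x y => ?_, fun q => ?_⟩
    · induction x using Quotient.inductionOn' with | h n =>
      induction y using Quotient.inductionOn' with | h m =>
      intro hxy
      exact Quotient.sound' (QuotientGroup.leftRel_apply.2 ((hf n m).1 (congrArg Subtype.val hxy)))
    · obtain ⟨q, hq⟩ := q
      obtain ⟨a, rfl⟩ := QuotientGroup.mk'_surjective F' q
      obtain ⟨n, hn, hn'⟩ := h a a.2 fun haF =>
        hq ((QuotientGroup.eq_one_iff a).2 (mem_subgroupOf.2 haF))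
      refine ⟨QuotientGroup.mk ⟨n, hn⟩, Subtype.ext (QuotientGroup.eq.2 ?_).symm⟩
      exact mem_subgroupOf.2 hn'
  have hcard := Nat.card_eq_of_bijective g hg
  have hq : Nat.card {q : ↥A ⧸ F' // q ≠ 1} = Nat.card (↥A ⧸ F') - 1 := by
    haveI := Fintype.ofFinite (↥A ⧸ F')
    classical
    rw [Nat.card_eq_fintype_card, Nat.card_eq_fintype_card, Fintype.card_subtype_compl,
      Fintype.card_subtype_eq]
  have hAF : Nat.card A = Nat.card (↥A ⧸ F') * Nat.card F := by
    rw [card_eq_card_quotient_mul_card_subgroup F',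
      Nat.card_congr (subgroupOfEquivOfLe hF).toEquiv]
  have hdvd : Nat.card (↥A ⧸ F') - 1 ∣ Nat.card G := by
    rw [← hq, ← hcard]
    exact (card_quotient_dvd_card _).trans (card_subgroup_dvd_card _)
  refine d.three (dvd_trans ?_ hdvd)
  have h1 : (Nat.card (↥A ⧸ F') * Nat.card F) % 3 = 1 := hAF ▸ d.card_mod le_rfl d.inv
  rw [Nat.mul_mod, d.card_mod hF hFα, mul_one, Nat.mod_mod] at h1
  omega

/-- The hypothesis of the inductive step. -/
structure Step (D : S3Fpf.Act G) (S : Sylow 2 G) (A F : Subgroup G) : Prop where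
  data : Data D S A
  le : F ≤ A
  eight : Nat.card F * 8 ≤ Nat.card A
  ih : ∀ b ∈ A, b ∉ F → Split (centralizer ((F ⊔ zpowers b : Subgroup G) : Set G)) (S : Subgroup G)

variable (K : Step D S A F)
include K

theorem Step.sup_le_A {b : G} (hb : b ∈ A) : F ⊔ zpowers b ≤ A := sup_le K.le (zpowers_le.2 hb)

theorem Step.S_le_CX {b : G} (hb : b ∈ A) : (S : Subgroup G) ≤ CX F b :=
  K.data.S_le_centralizer (K.sup_le_A hb)

theorem Step.balance {a b : G} (ha : a ∈ A) (hb : b ∈ A) (hbF : b ∉ F) :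
    core (CX F a) ⊓ centralizer ({b} : Set G) ≤ core (CX F b) := by
  intro e he
  set E := core (CX F a) ⊓ centralizer ({b} : Set G) with hE
  set Y := CX F b with hY
  set C := centralizer ((S : Subgroup G) : Set G) with hC
  have hEY : E ≤ Y := fun x hx => mem_CX.2 ⟨CX_le F a (core_le _ (mem_inf.1 hx).1),
    mem_centralizer_singleton_iff.1 (mem_inf.1 hx).2⟩
  have hSb : (S : Subgroup G) ≤ centralizer ({b} : Set G) := fun s hs =>
    mem_centralizer_singleton_iff.2 (mem_centralizer_iff.1 (K.data.central hs) b hb).symm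
  have hSE : (S : Subgroup G) ≤ normalizer (E : Set G) :=
    (le_inf ((K.S_le_CX ha).trans (core_normalized _)) (hSb.trans Subgroup.le_normalizer)).trans
      Subgroup.inf_normalizer_le_normalizer_inf
  have hEodd : ¬ 2 ∣ Nat.card E := fun h =>
    core_odd (CX F a) (h.trans (card_dvd_of_le inf_le_left))
  set M := E ⊔ core Y with hM
  have hModd : ¬ 2 ∣ Nat.card M := sup_core_odd hEY hEodd
  have hSM : (S : Subgroup G) ≤ normalizer (M : Set G) :=
    (le_inf hSE ((K.S_le_CX hb).trans (core_normalized _))).trans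
      (normalizer_inf_normalizer_le_normalizer_sup _ _)
  have hsplit : Split Y (S : Subgroup G) := K.ih b hb hbF
  obtain ⟨o, ho, n, hn, rfl⟩ := hsplit.exists_mul (hEY he)
  have hnM : n ∈ M := by
    have := mul_mem (mem_sup_right (S := E) (inv_mem ho)) (mem_sup_left (T := core Y) he)
    rwa [inv_mul_cancel_left] at this
  have hnC : n ∈ C := mem_centralizer_iff.2 fun s hs => by
    have h1 : n * s * n⁻¹ * s⁻¹ ∈ (S : Subgroup G) :=
      mul_mem ((mem_normalizer_iff.1 (mem_inf.1 hn).1 s).1 hs) (inv_mem hs)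
    have h2 : n * s * n⁻¹ * s⁻¹ ∈ M := by
      have h3 : s * n⁻¹ * s⁻¹ ∈ M := (mem_normalizer_iff.1 (hSM hs) n⁻¹).1 (inv_mem hnM)
      have := mul_mem hnM h3
      simpa [mul_assoc] using this
    have h4 := eq_one_of_two_odd S.2 hModd h1 h2
    rw [mul_inv_eq_one, mul_inv_eq_iff_eq_mul] at h4
    exact h4.symm
  have hno : n ∈ core C := K.data.odd_mem_core_centralizer hnC (odd_orderOf_of_mem hModd hnM)
  have hCY : core C ≤ Y :=
    (core_le C).trans (Subgroup.centralizer_le ((K.sup_le_A hb).trans K.data.le))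
  have hYn : Y ≤ normalizer ((core C ⊔ core Y : Subgroup G) : Set G) :=
    hsplit.trans (sup_le (le_trans le_sup_right Subgroup.le_normalizer)
      ((le_inf (inf_le_left.trans ((LELarge.normalizer_le_normalizer_centralizer _).trans
        (normalizer_le_normalizer_core C))) (inf_le_right.trans (core_normalized Y))).trans
        (normalizer_inf_normalizer_le_normalizer_sup _ _)))
  exact mul_mem ho (mem_core_of_mem (sup_le hCY (core_le Y)) hYn (sup_core_odd hCY (core_odd C))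
    (mem_sup_left hno))

/-- A complement of `F` in `A`. -/
theorem Step.exists_complement : ∃ B : Subgroup G, B ≤ A ∧ B ⊓ F = ⊥ ∧
    (∀ a ∈ A, ∃ f ∈ F, ∃ b ∈ B, a = f * b) ∧ 8 ≤ Nat.card B := by
  obtain ⟨B, ⟨hBA, hBF⟩, hmax⟩ := (Set.toFinite {B : Subgroup G | B ≤ A ∧ B ⊓ F = ⊥}).exists_maximal
    ⟨⊥, bot_le, bot_inf_eq _⟩
  have hn : B ≤ normalizer (F : Set G) :=
    (hBA.trans (K.data.A_le_centralizer K.le)).trans (centralizer_le_normalizer _)
  have hall : A ≤ F ⊔ B := by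
    intro a ha
    by_contra hab
    have haB : a ∉ B := fun h => hab (mem_sup_right h)
    have hle : B ⊔ zpowers a ≤ A := sup_le hBA (zpowers_le.2 ha)
    have hint : (B ⊔ zpowers a) ⊓ F = ⊥ := by
      rw [eq_bot_iff]
      intro x hx
      obtain ⟨hx1, hx2⟩ := mem_inf.1 hx
      have hna : zpowers a ≤ normalizer (B : Set G) := zpowers_le.2
        ((centralizer_le_normalizer _) (K.data.A_le_centralizer hBA ha))
      rw [← SetLike.mem_coe, coe_mul_of_right_le_normalizer_left _ _ hna] at hx1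
      obtain ⟨c, hc, w, hw, rfl⟩ := hx1
      beta_reduce at hx2 ⊢
      rcases zpowers_cases (K.data.sq a ha) hw with rfl | rfl
      · simp only [mul_one] at hx2 ⊢
        exact hBF ▸ mem_inf.2 ⟨hc, hx2⟩
      · refine absurd ?_ hab
        simpa using mul_mem (mem_sup_right (S := F) (inv_mem hc)) (mem_sup_left (T := B) hx2)
    exact haB (hmax ⟨hle, hint⟩ le_sup_left (mem_sup_right (mem_zpowers a)))
  refine ⟨B, hBA, hBF, fun a ha => ?_, ?_⟩
  · have h := hall ha
    rw [← SetLike.mem_coe, coe_mul_of_right_le_normalizer_left _ _ hn] at h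
    obtain ⟨f, hf, b, hb, rfl⟩ := h
    exact ⟨f, hf, b, hb, rfl⟩
  · have hcard := SolvBasic.card_sup_of_inf_eq_bot hn (by rw [inf_comm]; exact hBF)
    have h1 := Subgroup.card_le_of_le hall
    rw [hcard] at h1
    exact Nat.le_of_mul_le_mul_left (K.eight.trans h1) Nat.card_pos

/-- The closure of the signalizer functor. -/
theorem Step.exists_W : ∃ W : Subgroup G, W ≤ centralizer (F : Set G) ∧ ¬ 2 ∣ Nat.card W ∧
    MX S F ≤ normalizer (W : Set G) ∧ ∀ b ∈ A, b ∉ F → CX F b ≤ W ⊔ MX S F := by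
  obtain ⟨B, hBA, hBF, hdec, hB8⟩ := K.exists_complement
  have hne : ∀ b ∈ B, b ≠ 1 → b ∉ F := fun b hb hb1 h =>
    hb1 (mem_bot.1 (hBF ▸ mem_inf.2 ⟨hb, h⟩))
  set θ : G → Subgroup G := fun b => core (CX F b) with hθdef
  have hθ : Cfsg.IsSolvableSignalizerFunctor 2 B θ := by
    refine ⟨⟨fun b _ _ x hx => mem_centralizer_singleton_iff.2 (mem_CX.1 (core_le _ hx)).2,
      fun b _ _ => core_odd _, fun b hb _ a ha x hx =>
        conj_mem_core (K.S_le_CX (hBA hb) (K.data.le (hBA ha))) hx,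
      fun a ha _ b hb hb1 => K.balance (hBA ha) (hBA hb) (hne b hb hb1)⟩, fun b _ _ => ?_⟩
    refine OddChar.oddSolvable _ ?_
    rw [← Nat.not_even_iff_odd, even_iff_two_dvd]
    exact core_odd _
  obtain ⟨hfam, -⟩ := Signalizer.SFT.iSup_props (Signalizer.ea_mono K.data.ea hBA)
    (by norm_num; exact hB8) hθ
  set W := ⨆ b : {b : G // b ∈ B ∧ b ≠ 1}, θ b.1 with hW
  have hθW : ∀ b ∈ A, b ∉ F → core (CX F b) ≤ W := fun a ha haF => by
    obtain ⟨f, hf, b, hb, rfl⟩ := hdec a ha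
    have hb1 : b ≠ 1 := fun h => haF (by rw [h, mul_one]; exact hf)
    rw [CX_mul hf]
    exact le_iSup (fun b : {b : G // b ∈ B ∧ b ≠ 1} => θ b.1) ⟨b, hb, hb1⟩
  refine ⟨W, iSup_le fun b => (core_le _).trans (CX_le F _), hfam.2.1, fun n hn => ?_,
    fun b hb hbF => ?_⟩
  · rw [← LEBasic.map_conj_eq_iff_mem_normalizer]
    refine eq_of_le_of_card_ge ?_ (LEBasic.card_map_conj W n).ge
    rw [map_le_iff_le_comap]
    refine iSup_le fun b => map_le_iff_le_comap.1 (le_trans (conj_core_le _ _) ?_)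
    rw [map_CX (mem_inf.1 hn).2]
    refine hθW _ (K.data.conj_mem (mem_inf.1 hn).1 (hBA b.2.1)) fun h => ?_
    refine hne _ b.2.1 b.2.2 ?_
    have h' := mem_centralizer_iff.1 (mem_inf.1 hn).2 _ h
    rw [inv_mul_cancel_right] at h'
    rwa [mul_left_cancel h']
  · intro x hx
    obtain ⟨o, ho, n, hn, rfl⟩ := Split.exists_mul (K.ih b hb hbF) hx
    exact mul_mem (mem_sup_left (hθW b hb hbF ho)) (mem_sup_right
      (mem_inf.2 ⟨(mem_inf.1 hn).1, CX_le F b (mem_inf.1 hn).2⟩))

/-- The subgroup generated by the centralizers is the whole centralizer of `F`. -/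
theorem Step.eq {H : Subgroup G} (hH : H ≤ centralizer (F : Set G)) (hMH : MX S F ≤ H)
    (hcent : ∀ b ∈ A, b ∉ F → CX F b ≤ H) : centralizer (F : Set G) ≤ H := by
  classical
  have d := K.data
  set X := centralizer (F : Set G) with hX
  have hSX : (S : Subgroup G) ≤ X := d.S_le_centralizer K.le
  have hSH : (S : Subgroup G) ≤ H := (d.S_le_MX K.le).trans hMH
  obtain ⟨b, hb, hbF⟩ : ∃ b ∈ A, b ∉ F := by
    by_contra! h
    have h1 := Subgroup.card_le_of_le h
    have h2 := K.eight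
    have : 0 < Nat.card F := Nat.card_pos
    omega
  obtain ⟨x, hxA, hxF, hxb⟩ := d.exists_avoid K.le K.eight hb hbF
  -- an element moving `b` into `H` lies in `H`
  have hmove : ∀ g ∈ X, g * b * g⁻¹ ∈ H → g ∈ H := by
    intro g hg hgb
    obtain ⟨c, hc, hcS⟩ := d.exists_conj hSH ((twoEl_of_sq (d.sq b hb)).conj g).isPGroup
      (zpowers_le.2 hgb)
    have h1 : c * g * b * (c * g)⁻¹ ∈ (S : Subgroup G) := by
      have := hcS _ (mem_zpowers (g * b * g⁻¹))
      simpa [mul_assoc] using this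
    obtain ⟨n, hn, hn'⟩ := d.control K.le (mul_mem (hH hc) hg) {b}
      (fun x hx => by rw [Set.mem_singleton_iff.1 hx]; exact d.le hb)
      (fun x hx => by rw [Set.mem_singleton_iff.1 hx]; exact h1)
    have h2 : n⁻¹ * (c * g) ∈ CX F b := by
      refine mem_CX.2 ⟨mul_mem (inv_mem (mem_inf.1 hn).2) (mul_mem (hH hc) hg), ?_⟩
      calc n⁻¹ * (c * g) * b = n⁻¹ * (c * g * b * (c * g)⁻¹) * (c * g) := by group
        _ = n⁻¹ * (n * b * n⁻¹) * (c * g) := by rw [hn' b rfl]
        _ = _ := by group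
    have h3 := mul_mem (inv_mem hc) (mul_mem (hMH hn) (hcent b hb hbF h2))
    simpa [mul_assoc] using h3
  by_contra hnot
  -- a largest bad elementary abelian subgroup of `S`
  let bad : Set (Subgroup G) :=
    {E | F ≤ E ∧ E ≤ (S : Subgroup G) ∧ (∀ e ∈ E, e * e = 1) ∧ ¬ X ⊓ centralizer (E : Set G) ≤ H}
  have hne : bad.Nonempty := ⟨F, le_rfl, K.le.trans d.le, fun e he => d.sq e (K.le he), by
    rw [inf_idem]; exact hnot⟩
  obtain ⟨E, ⟨hFE, hES, hE2, hEbad⟩, hmax⟩ :=
    Set.exists_max_image bad (fun E => Nat.card E) (Set.toFinite _) hne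
  have hEA : ∀ z ∈ E, z ∈ A → z ∈ F := fun z hz hzA => by
    by_contra hzF
    refine hEbad (le_trans (fun g hg => ?_) (hcent z hzA hzF))
    exact mem_CX.2 ⟨(mem_inf.1 hg).1, ((mem_centralizer_iff.1 (mem_inf.1 hg).2) z hz).symm⟩
  obtain ⟨y, hy, hyH⟩ := SetLike.not_le_iff_exists.1 hEbad
  set Y := X ⊓ centralizer (E : Set G) with hY
  have hAY : A ≤ Y := le_inf (d.A_le_centralizer K.le) fun a ha =>
    mem_centralizer_iff.2 fun z hz => (mem_centralizer_iff.1 (d.central (hES hz)) a ha).symm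
  have hfix : ∀ c ∈ Y, ∀ z ∈ E, c * z * c⁻¹ = z := fun c hc z hz => by
    rw [← mem_centralizer_iff.1 (mem_inf.1 hc).2 z hz, mul_inv_cancel_right]
  set b' := y * b * y⁻¹ with hb'
  have hb'Y : b' ∈ Y := mul_mem (mul_mem hy (hAY hb)) (inv_mem hy)
  have hb'2 : b' * b' = 1 := by
    rw [hb', show y * b * y⁻¹ * (y * b * y⁻¹) = y * (b * b) * y⁻¹ by group, d.sq b hb, mul_one,
      mul_inv_cancel]
  have hxY : x ∈ Y := hAY hxA
  have hx2 := d.sq x hxA
  set e₀ := x * b' with he₀
  have he₀Y : e₀ ∈ Y := mul_mem hxY hb'Y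
  have hxinv : x⁻¹ = x := d.inv_eq hxA
  have hxd : ∀ i : ℕ, x * e₀ ^ i * x⁻¹ = (e₀ ^ i)⁻¹ := fun i => by
    rw [← conj_pow, he₀, ← inv_pow]
    congr 1
    rw [mul_inv_rev, hxinv, inv_eq_of_mul_eq_one_right hb'2, ← mul_assoc, hx2, one_mul]
  have hex : ∃ k, 0 < k ∧ e₀ ^ k ∈ E :=
    ⟨orderOf e₀, orderOf_pos e₀, by rw [pow_orderOf_eq_one]; exact one_mem _⟩
  obtain ⟨hk0, hkE⟩ : 0 < Nat.find hex ∧ e₀ ^ Nat.find hex ∈ E := Nat.find_spec hex
  rcases Nat.even_or_odd (Nat.find hex) with ⟨j, hj⟩ | ⟨j, hj⟩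
  · set e := e₀ ^ j with he
    have heY : e ∈ Y := pow_mem he₀Y j
    have heeE : e * e ∈ E := by rw [he, ← pow_add, ← hj]; exact hkE
    have heE : e ∉ E := fun h => Nat.find_min hex (show j < Nat.find hex by omega) ⟨by omega, h⟩
    have hex' : e * x * e⁻¹ = e * e * x := by
      have h1 := hxd j
      rw [← he, hxinv] at h1
      calc e * x * e⁻¹ = e * x * (x * e * x) := by rw [h1]
        _ = e * (x * x) * e * x := by simp [mul_assoc]
        _ = e * e * x := by rw [hx2, mul_one]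
    set z := e * e with hz
    obtain ⟨n, hn, hn'⟩ := d.control K.le (mem_inf.1 heY).1 ({x} ∪ (E : Set G))
      (fun w hw => hw.elim (fun h => by rw [Set.mem_singleton_iff.1 h]; exact d.le hxA)
        fun h => hES h)
      (fun w hw => hw.elim
        (fun h => by
          rw [Set.mem_singleton_iff.1 h, hex']
          exact mul_mem (hES heeE) (d.le hxA))
        fun h => by rw [hfix e heY w h]; exact hES h)
    have hnx : n * x * n⁻¹ = z * x := by rw [← hn' x (Or.inl rfl), hex']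
    have hnz : n * z * n⁻¹ = z := by rw [← hn' z (Or.inr heeE), hfix e heY z heeE]
    have hzA : z ∈ A := by
      have := mul_mem (d.conj_mem (mem_inf.1 hn).1 hxA) (inv_mem hxA)
      rwa [hnx, mul_inv_cancel_right] at this
    have hz1 : z = 1 := by
      have h2 : n * (n * x * n⁻¹) * n⁻¹ = x := by
        rw [hnx, show n * (z * x) * n⁻¹ = n * z * n⁻¹ * (n * x * n⁻¹) by group, hnz, hnx,
          ← mul_assoc, d.sq z hzA, one_mul]
      have h3 := d.fix_of_sq (d.norm (mem_inf.1 hn).1) hxA h2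
      rw [hnx] at h3
      exact mul_eq_right.1 h3
    have hee : e * e = 1 := hz.symm.trans hz1
    have hec : ∀ w ∈ E, e * w = w * e := fun w hw =>
      (mem_centralizer_iff.1 (mem_inf.1 heY).2 w hw).symm
    have heH : e ∈ H := hcent x hxA hxF (mem_CX.2 ⟨(mem_inf.1 heY).1, by
      have h1 := hex'
      rw [hz1, one_mul] at h1
      exact mul_inv_eq_iff_eq_mul.1 h1⟩)
    -- enlarge `E`
    set E₁ := E ⊔ zpowers e with hE₁
    have hn₁ : zpowers e ≤ normalizer (E : Set G) :=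
      zpowers_le.2 (centralizer_le_normalizer _ (mem_inf.1 heY).2)
    have hE₁p : IsPGroup 2 ↥E₁ :=
      IsPGroup.to_sup_of_normal_left' (S.2.to_le hES) (twoEl_of_sq hee).isPGroup hn₁
    have hE₁H : E₁ ≤ H := sup_le (hES.trans hSH) (zpowers_le.2 heH)
    have hE₁2 : ∀ w ∈ E₁, w * w = 1 := by
      intro w hw
      rw [hE₁, ← SetLike.mem_coe, coe_mul_of_right_le_normalizer_left _ _ hn₁] at hw
      obtain ⟨u, hu, v, hv, rfl⟩ := hw
      beta_reduce
      rcases zpowers_cases hee hv with rfl | rfl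
      · rw [mul_one]; exact hE2 u hu
      · calc u * e * (u * e) = u * (e * u) * e := by group
          _ = u * u * (e * e) := by rw [hec u hu]; group
          _ = 1 := by rw [hE2 u hu, hee, one_mul]
    obtain ⟨c, hc, hcS⟩ := d.exists_conj hSH hE₁p hE₁H
    set E₂ := E₁.map (MulAut.conj c).toMonoidHom with hE₂
    have hcF : ∀ f ∈ F, c * f * c⁻¹ = f := fun f hf => by
      rw [← mem_centralizer_iff.1 (hH hc) f hf, mul_inv_cancel_right]
    have hgood : X ⊓ centralizer (E₂ : Set G) ≤ H := by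
      by_contra hb2
      have hm : E₂ ∈ bad := ⟨fun f hf => ⟨f, mem_sup_left (hFE hf), hcF f hf⟩,
        by rintro _ ⟨w, hw, rfl⟩; exact hcS w hw,
        by
          rintro _ ⟨w, hw, rfl⟩
          change c * w * c⁻¹ * (c * w * c⁻¹) = 1
          rw [show c * w * c⁻¹ * (c * w * c⁻¹) = c * (w * w) * c⁻¹ by group, hE₁2 w hw, mul_one,
            mul_inv_cancel], hb2⟩
      have h1 : Nat.card E₂ ≤ Nat.card E := hmax E₂ hm
      rw [hE₂, LEBasic.card_map_conj] at h1
      have h2 := eq_of_le_of_card_ge (le_sup_left : E ≤ E₁) h1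
      exact heE (h2 ▸ mem_sup_right (mem_zpowers e))
    have hd : e₀ ∈ H := by
      have hin : c * e₀ * c⁻¹ ∈ X ⊓ centralizer (E₂ : Set G) := by
        refine mem_inf.2 ⟨mul_mem (mul_mem (hH hc) (mem_inf.1 he₀Y).1) (inv_mem (hH hc)),
          mem_centralizer_iff.2 ?_⟩
        rintro _ ⟨w, hw, rfl⟩
        have hwe : w * e₀ = e₀ * w := by
          have hle : E₁ ≤ centralizer ({e₀} : Set G) := sup_le
            (fun u hu => mem_centralizer_singleton_iff.2
              (mem_centralizer_iff.1 (mem_inf.1 he₀Y).2 u hu))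
            (zpowers_le.2 (mem_centralizer_singleton_iff.2 (Commute.pow_self e₀ j).eq))
          exact mem_centralizer_singleton_iff.1 (hle hw)
        change c * w * c⁻¹ * (c * e₀ * c⁻¹) = c * e₀ * c⁻¹ * (c * w * c⁻¹)
        calc _ = c * (w * e₀) * c⁻¹ := by group
          _ = c * (e₀ * w) * c⁻¹ := by rw [hwe]
          _ = _ := by group
      simpa [mul_assoc] using mul_mem (mul_mem (inv_mem hc) (hgood hin)) hc
    have h3 := mul_mem (hSH (d.le hxA)) hd
    rw [he₀, ← mul_assoc, hx2, one_mul] at h3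
    exact hyH (hmove y (mem_inf.1 hy).1 h3)
  · set f := e₀ ^ Nat.find hex with hf
    have hfX : f * b' = y * (f * b) * y⁻¹ := by
      conv_lhs => rw [← hfix y hy _ hkE]
      rw [hb']; group
    have hconj : e₀ ^ j * x * (e₀ ^ j)⁻¹ = f * b' := by
      have h1 := hxd j
      rw [hxinv] at h1
      have hdx : b' = e₀⁻¹ * x := by
        rw [he₀, mul_inv_rev, inv_eq_of_mul_eq_one_right hb'2, hxinv, mul_assoc, hx2, mul_one]
      calc e₀ ^ j * x * (e₀ ^ j)⁻¹ = e₀ ^ j * x * (x * e₀ ^ j * x) := by rw [h1]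
        _ = e₀ ^ j * (x * x) * e₀ ^ j * x := by simp [mul_assoc]
        _ = f * b' := by
          rw [hx2, mul_one, hf, hdx, hj, pow_succ, two_mul, pow_add]
          group
    set g := (e₀ ^ j)⁻¹ * y with hg
    have hgY : g ∈ Y := mul_mem (inv_mem (pow_mem he₀Y j)) hy
    have hgfb : g * (f * b) * g⁻¹ = x := by
      calc g * (f * b) * g⁻¹ = (e₀ ^ j)⁻¹ * (y * (f * b) * y⁻¹) * e₀ ^ j := by rw [hg]; group
        _ = (e₀ ^ j)⁻¹ * (e₀ ^ j * x * (e₀ ^ j)⁻¹) * e₀ ^ j := by rw [hconj, hfX]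
        _ = x := by group
    obtain ⟨n, hn, hn'⟩ := d.control K.le (mem_inf.1 hgY).1 ({f * b} ∪ (E : Set G))
      (fun w hw => hw.elim
        (fun h => by rw [Set.mem_singleton_iff.1 h]; exact mul_mem (hES hkE) (d.le hb))
        fun h => hES h)
      (fun w hw => hw.elim
        (fun h => by rw [Set.mem_singleton_iff.1 h, hgfb]; exact d.le hxA)
        fun h => by rw [hfix g hgY w h]; exact hES h)
    have hnfb : n * (f * b) * n⁻¹ = x := by rw [← hn' _ (Or.inl rfl), hgfb]
    have hnf : n * f * n⁻¹ = f := by rw [← hn' _ (Or.inr hkE), hfix g hgY f hkE]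
    have hfA : f ∈ A := by
      have h1 : x * (n * b * n⁻¹)⁻¹ ∈ A := mul_mem hxA (inv_mem (d.conj_mem (mem_inf.1 hn).1 hb))
      rw [← hnfb, show n * (f * b) * n⁻¹ = n * f * n⁻¹ * (n * b * n⁻¹) by group,
        mul_inv_cancel_right, hnf] at h1
      exact h1
    refine hxb n hn ?_
    have h2 : x = f * (n * b * n⁻¹) := by
      rw [← hnfb, show n * (f * b) * n⁻¹ = n * f * n⁻¹ * (n * b * n⁻¹) by group, hnf]
    have h3 : x⁻¹ * (n * b * n⁻¹) = f⁻¹ := by
      have hc : x⁻¹ * (n * b * n⁻¹) = (n * b * n⁻¹)⁻¹ * f⁻¹ * (n * b * n⁻¹) := by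
        rw [h2, mul_inv_rev]
      rw [hc, mul_assoc, d.comm (inv_mem hfA) (d.conj_mem (mem_inf.1 hn).1 hb),
        inv_mul_cancel_left]
    rw [h3]
    exact inv_mem (hEA f hkE hfA)

omit K

/-- All centralizers of subgroups of `A` split. -/
theorem Data.split (d : Data D S A) : ∀ F ≤ A, Split (centralizer (F : Set G)) (S : Subgroup G) := by
  intro F hF
  induction hm : Nat.card A - Nat.card F using Nat.strong_induction_on generalizing F with
  | _ m ih =>
  by_cases hmov : ∃ r ∈ MX S F, r ∉ centralizer (A : Set G)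
  · obtain ⟨r, hr, hrC⟩ := hmov
    have h8 : Nat.card F * 8 ≤ Nat.card A := (Nat.mul_le_mul_right 8 (Subgroup.card_le_of_le
      (le_inf hF fun f hf => mem_centralizer_singleton_iff.2
        (mem_centralizer_iff.1 (mem_inf.1 hr).2 f hf)))).trans (d.small (d.norm (mem_inf.1 hr).1) hrC)
    have K : Step D S A F := ⟨d, hF, h8, fun b hb hbF => ih _ (by
      have h2 := Subgroup.card_le_of_le (sup_le hF (zpowers_le.2 hb))
      have h1 : Nat.card F < Nat.card ↥(F ⊔ zpowers b) := by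
        by_contra h
        exact hbF ((eq_of_le_of_card_ge le_sup_left (not_lt.1 h)).symm ▸
          mem_sup_right (mem_zpowers b))
      omega) _ (sup_le hF (zpowers_le.2 hb)) rfl⟩
    obtain ⟨W, hWX, hWodd, hWn, hW⟩ := K.exists_W
    have hXH := K.eq (sup_le hWX inf_le_right) le_sup_right hW
    have hXn : centralizer (F : Set G) ≤ normalizer (W : Set G) :=
      hXH.trans (sup_le Subgroup.le_normalizer hWn)
    exact hXH.trans (sup_le_sup_right (le_core hWX hXn hWodd) _)
  · simp only [not_exists, not_and, not_not] at hmov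
    exact d.split_of_trivial hF hmov

end Cfsg.Agent.FpfS3
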