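import Cfsg.Agent.Lib.FpfS3.Engine
import Cfsg.Agent.Lib.FiniteGroup.S3Fpf.Reduction
import Cfsg.Agent.Lib.OddOrder.FittingUniq
import Cfsg.Agent.Lib.S3Free.Closure.General
import Cfsg.Agent.Lib.Solvable.CoprimeFreeGroup

/-!
Groups of order prime to three with a fixed-point-free group of automorphisms isomorphic to the
symmetric group of degree three.
-/

set_option autoImplicit false
set_option linter.style.haveILetI false
set_option linter.unusedSectionVars false

namespace Cfsg.Agent.FpfS3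

open Subgroup Cfsg.Agent.ClosedAbelian

universe u

section general

variable {G : Type u} [Group G] [Finite G]

/-- The conclusion. -/
def Good (D : S3Fpf.Act G) : Prop :=
  Group.IsSolvable G ∧ ∀ g : G, ∃ k ∈ Cfsg.pPrimePCore 2 G, ∃ c, D.α c = c ∧ g = k * c

variable {D : S3Fpf.Act G}

theorem Good.two_mem (hG : Good D) {x : G} (hx : TwoEl x) : x ∈ Cfsg.pPrimePCore 2 G := by
  haveI := Cfsg.Agent.PPrimePC.pPrimePCore_normal (G := G) (p := 2)
  obtain ⟨k, hk, c, hc, rfl⟩ := hG.2 x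
  obtain ⟨i, hi⟩ := hx
  have h1 : (QuotientGroup.mk (k * c) : G ⧸ Cfsg.pPrimePCore 2 G) = QuotientGroup.mk c := by
    rw [QuotientGroup.mk_mul, (QuotientGroup.eq_one_iff k).2 hk, one_mul]
  have h2 : (QuotientGroup.mk c : G ⧸ Cfsg.pPrimePCore 2 G) = 1 :=
    TwoEl.eq_one_of_odd ⟨i, by rw [← h1, ← QuotientGroup.mk_pow, hi, QuotientGroup.mk_one]⟩
      ((fixed_odd D hc).of_dvd_nat (orderOf_map_dvd (QuotientGroup.mk' _) c))
  exact mul_mem hk ((QuotientGroup.eq_one_iff c).1 h2)

/-- `O_{2',2}(G) = O(G) S`. -/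
theorem core_le_sup (S : Sylow 2 G) :
    Cfsg.pPrimePCore 2 G ≤ Cfsg.oddCore G ⊔ (S : Subgroup G) := by
  haveI : Fact (Nat.Prime 2) := ⟨Nat.prime_two⟩
  exact (Cfsg.Agent.PPrimePC.pPrimePCore_le_sup S).trans
    (sup_le (le_sup_of_le_right inf_le_left) le_sup_left)

theorem Good.exists_mul (hG : Good D) (S : Sylow 2 G) (g : G) :
    ∃ o ∈ Cfsg.oddCore G, ∃ n ∈ normalizer ((S : Subgroup G) : Set G), g = o * n := by
  haveI := Cfsg.Agent.PPrimePC.pPrimePCore_normal (G := G) (p := 2)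
  haveI : (Cfsg.oddCore G).Normal := FittingCores.pPrimeCore_normal 2
  set M := Cfsg.oddCore G ⊔ (S : Subgroup G) with hM
  have hgM : (S : Subgroup G).map (MulAut.conj g).toMonoidHom ≤ M := by
    rintro _ ⟨s, hs, rfl⟩
    exact core_le_sup S (hG.two_mem ((TwoEl.of_group S.2 hs).conj g))
  obtain ⟨c, hc, T, hT, hST, -, hcT⟩ := exists_conj_over S.2 le_sup_right (S.2.map _) hgM
  have hTS : T = (S : Subgroup G) := S.is_maximal' hT hST
  have hn : c * g ∈ normalizer ((S : Subgroup G) : Set G) := by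
    rw [← LEBasic.map_conj_eq_iff_mem_normalizer]
    refine eq_of_le_of_card_ge ?_ (LEBasic.card_map_conj _ _).ge
    rintro _ ⟨a, ha, rfl⟩
    have := hTS ▸ hcT _ ⟨a, ha, rfl⟩
    simpa [mul_assoc] using this
  have h1 : g ∈ Cfsg.oddCore G ⊔ normalizer ((S : Subgroup G) : Set G) := by
    have h2 := mul_mem (inv_mem ((sup_le_sup_left Subgroup.le_normalizer _ : M ≤ _) hc))
      (mem_sup_right (S := Cfsg.oddCore G) hn)
    rwa [inv_mul_cancel_left] at h2
  rw [← SetLike.mem_coe, Subgroup.normal_mul] at h1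
  obtain ⟨o, ho, n, hn', he⟩ := h1
  exact ⟨o, ho, n, hn', he.symm⟩

/-- The consequences in the ambient group, for a stable subgroup containing `S`. -/
theorem Good.ambient {H : Subgroup G} {hH : D.Inv H} (hG : Good (D.restrict H hH)) (S : Sylow 2 G)
    (hSH : (S : Subgroup G) ≤ H) :
    Split H (S : Subgroup G) ∧
      ∀ x ∈ H, ∃ k ∈ core H ⊔ (S : Subgroup G), ∃ c ∈ H, D.α c = c ∧ x = k * c := by
  let S' : Sylow 2 ↥H := S.subtype hSH
  refine ⟨fun x hx => ?_, fun x hx => ?_⟩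
  · obtain ⟨o, ho, n, hn, he⟩ := hG.exists_mul S' ⟨x, hx⟩
    have he' : x = (o : G) * (n : G) := congrArg Subtype.val he
    rw [he']
    refine mul_mem (mem_sup_left ⟨o, ho, rfl⟩) (mem_sup_right (mem_inf.2 ⟨?_, n.2⟩))
    have h1 := le_normalizer_map H.subtype (mem_map_of_mem H.subtype hn)
    rwa [show (S' : Subgroup ↥H).map H.subtype = (S : Subgroup G) from
      (congrArg (Subgroup.map H.subtype) (Sylow.coe_subtype S hSH)).trans
        (map_subgroupOf_eq_of_le hSH)] at h1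
  · obtain ⟨k, hk, c, hc, he⟩ := hG.2 ⟨x, hx⟩
    have hk' := mem_map_of_mem H.subtype (core_le_sup S' hk)
    rw [Subgroup.map_sup, show (S' : Subgroup ↥H).map H.subtype = (S : Subgroup G) from
      (congrArg (Subgroup.map H.subtype) (Sylow.coe_subtype S hSH)).trans
        (map_subgroupOf_eq_of_le hSH)] at hk'
    exact ⟨k, hk', c, c.2, congrArg Subtype.val hc, congrArg Subtype.val he⟩

/-- The four-letter symmetric group is not involved. -/
theorem not_involves (h3 : ¬ 3 ∣ Nat.card G) : ¬ Cfsg.Involves (Equiv.Perm (Fin 4)) G := by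
  rintro ⟨K, R, hn, ⟨e⟩⟩
  have h1 := (card_quotient_dvd_card (R.subgroupOf K)).trans (card_subgroup_dvd_card K)
  rw [Nat.card_congr e.toEquiv, Nat.card_perm, Nat.card_eq_fintype_card, Fintype.card_fin] at h1
  exact h3 (dvd_trans (by decide) h1)

open Functors in
/-- Fusion in `S` is controlled by the normalizer of the characteristic subgroup. -/
theorem fusion_wOf (h3 : ¬ 3 ∣ Nat.card G) (S : Sylow 2 G) (X : Set G) (g : G)
    (hX : ∀ x ∈ X, x ∈ (S : Subgroup G)) (hgX : ∀ x ∈ X, g * x * g⁻¹ ∈ (S : Subgroup G)) :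
    ∃ n ∈ normalizer (SFW.wOf (S : Subgroup G) : Set G), ∀ x ∈ X, g * x * g⁻¹ = n * x * n⁻¹ := by
  haveI : Fact (Nat.Prime 2) := ⟨Nat.prime_two⟩
  have hctl : CtlSF 2 {SFW.wFun.{u}} G :=
    SFW.ctlSF_wFun (not_involves h3) fun Y _ _ _ h4 hC T => SFW.wOf_normal h4 hC T
  obtain ⟨T, hT, hsf⟩ := (familySF_iff _ _).1 hctl
  let P : Sylow 2 G := hT.isPGroup.toSylow (by
    have := hT.2.2
    rwa [relIndex_top_right] at this)
  obtain ⟨c, hc⟩ := LESylow.exists_conj_eq S P
  have hcT : (S : Subgroup G).map (MulAut.conj c).toMonoidHom = T := by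
    rw [hc]; exact IsPGroup.toSylow_coe _ _
  obtain ⟨m, f, hf0, hstep, -, hlast⟩ := hsf ((fun x => c * x * c⁻¹) '' X) (c * g * c⁻¹) (mem_top _)
    (by rintro _ ⟨x, hx, rfl⟩; rw [SetLike.mem_coe, ← hcT]; exact ⟨x, hX x hx, rfl⟩)
    (by
      rintro _ ⟨_, ⟨x, hx, rfl⟩, rfl⟩
      rw [SetLike.mem_coe, ← hcT]
      exact ⟨g * x * g⁻¹, hgX x hx, by
        change c * (g * x * g⁻¹) * c⁻¹ = _
        group⟩)
  have hW : ∀ i, f i ∈ normalizer (SFW.wOf T : Set G) := by
    intro i
    induction i using Fin.induction with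
    | zero => rw [hf0]; exact one_mem _
    | succ i ih =>
      obtain ⟨_, ⟨W, hW, rfl⟩, hx⟩ := hstep i
      rw [Set.mem_singleton_iff.1 hW] at hx
      have h1 : f i.succ * (f i.castSucc)⁻¹ ∈ normalizer (SFW.wOf T : Set G) := by
        rw [← SFW.inducedFunctor_wFun]
        exact (mem_inf.1 hx).2
      have := mul_mem h1 ih
      rwa [inv_mul_cancel_right] at this
  refine ⟨c⁻¹ * f (Fin.last m) * c, ?_, fun x hx => ?_⟩
  · have h1 := hW (Fin.last m)
    rw [← hcT, SFW.wOf_map _ (MulAut.conj c).injective, mem_normalizer_iff] at h1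
    rw [mem_normalizer_iff]
    intro w
    constructor
    · intro hw
      obtain ⟨v, hv, hve⟩ := (h1 _).1 (mem_map_of_mem (MulAut.conj c).toMonoidHom hw)
      have : c⁻¹ * f (Fin.last m) * c * w * (c⁻¹ * f (Fin.last m) * c)⁻¹ = v := by
        calc _ = c⁻¹ * (f (Fin.last m) * ((MulAut.conj c).toMonoidHom w) * (f (Fin.last m))⁻¹) * c := by
              change _ = c⁻¹ * (f (Fin.last m) * (c * w * c⁻¹) * (f (Fin.last m))⁻¹) * c
              group
          _ = c⁻¹ * (c * v * c⁻¹) * c := by rw [← hve]; rfl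
          _ = v := by group
      exact this.symm ▸ hv
    · intro hw
      obtain ⟨v, hv, hve⟩ := (h1 (c * w * c⁻¹)).2 ⟨_, hw, by
        change c * (c⁻¹ * f (Fin.last m) * c * w * (c⁻¹ * f (Fin.last m) * c)⁻¹) * c⁻¹ = _
        group⟩
      have hvw : v = w := (MulAut.conj c).injective hve
      exact hvw ▸ hv
  · have h1 := hlast _ ⟨x, hx, rfl⟩
    calc g * x * g⁻¹ = c⁻¹ * (c * g * c⁻¹ * (c * x * c⁻¹) * (c * g * c⁻¹)⁻¹) * c := by group
      _ = c⁻¹ * (f (Fin.last m) * (c * x * c⁻¹) * (f (Fin.last m))⁻¹) * c := by rw [h1]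
      _ = _ := by group

/-- No group without proper stable normal subgroups is a counterexample. -/
theorem solvable_of_simple (D : S3Fpf.Act G) (h3 : ¬ 3 ∣ Nat.card G)
    (hO : Cfsg.oddCore G = ⊥)
    (hmin : ∀ N : Subgroup G, N.Normal → D.Inv N → N ≠ ⊥ → N = ⊤)
    (ih : ∀ (H : Subgroup G) (hH : D.Inv H), H ≠ ⊤ → Good (D.restrict H hH)) :
    Group.IsSolvable G := by
  haveI : Fact (Nat.Prime 2) := ⟨Nat.prime_two⟩
  obtain ⟨S, hSi⟩ := exists_sylow D h3
  by_cases hS1 : (S : Subgroup G) = ⊥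
  · refine OddChar.oddSolvable G (Nat.not_even_iff_odd.1 fun he => ?_)
    exact S.ne_bot_of_dvd_card (even_iff_two_dvd.1 he) hS1
  -- a normal 2-subgroup finishes
  have hfin : ∀ N : Subgroup G, N ≤ (S : Subgroup G) → N ≠ ⊥ → D.Inv N →
      normalizer (N : Set G) = ⊤ → Group.IsSolvable G := by
    intro N hNS hN1 hNi hNn
    have hNtop : N = ⊤ := hmin N (normalizer_eq_top_iff.1 hNn) hNi hN1
    have hG2 : IsPGroup 2 G := (S.2.to_le (hNtop ▸ hNS)).of_equiv topEquiv
    haveI := hG2.isNilpotent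
    infer_instance
  by_contra hns
  -- the characteristic subgroup controlling fusion
  haveI : Nontrivial ↥(S : Subgroup G) := (nontrivial_iff_ne_bot _).2 hS1
  set W := SFW.wOf (S : Subgroup G) with hW
  have hW1 : W ≠ ⊥ := fun h =>
    SFW.wGen_ne_bot S.2 ((map_eq_bot_iff_of_injective _ (S : Subgroup G).subtype_injective).1 h)
  have hmap : ∀ φ : MulAut G, (∀ x ∈ (S : Subgroup G), φ x ∈ (S : Subgroup G)) →
      ∀ x ∈ W, φ x ∈ W := by
    intro φ hφ x hx
    have h1 : (S : Subgroup G).map φ.toMonoidHom = (S : Subgroup G) :=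
      eq_of_le_of_card_ge (by rintro _ ⟨y, hy, rfl⟩; exact hφ y hy)
        (Nat.card_congr ((S : Subgroup G).equivMapOfInjective _ φ.injective).toEquiv).le
    have h2 := SFW.wOf_map φ.toMonoidHom φ.injective (S : Subgroup G)
    rw [h1] at h2
    rw [hW]
    exact h2.symm ▸ mem_map_of_mem φ.toMonoidHom hx
  have hWi : D.Inv W := ⟨hmap D.α hSi.1, hmap D.τ hSi.2⟩
  have hWS : W ≤ (S : Subgroup G) := SFW.wOf_le _
  have hSW : (S : Subgroup G) ≤ normalizer (W : Set G) := by
    refine le_normalizer_iff.2 fun s hs w hw => hmap (MulAut.conj s) (fun x hx => ?_) w hw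
    exact mul_mem (mul_mem hs hx) (inv_mem hs)
  obtain ⟨hsplitW, -⟩ := (ih _ (D.inv_normalizer hWi)
    (fun h => hns (hfin W hWS hW1 hWi h))).ambient S hSW
  have hfusion : ∀ (X : Set G) (g : G), (∀ x ∈ X, x ∈ (S : Subgroup G)) →
      (∀ x ∈ X, g * x * g⁻¹ ∈ (S : Subgroup G)) →
      ∃ n ∈ normalizer ((S : Subgroup G) : Set G), ∀ x ∈ X, g * x * g⁻¹ = n * x * n⁻¹ := by
    intro X g hX hgX
    obtain ⟨n, hn, hn'⟩ := fusion_wOf h3 S X g hX hgX
    obtain ⟨o, ho, m, hm, rfl⟩ := hsplitW.exists_mul hn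
    refine ⟨m, (mem_inf.1 hm).1, fun x hx => ?_⟩
    rw [hn' x hx]
    set y := m * x * m⁻¹ with hy
    have hyS : y ∈ (S : Subgroup G) := (mem_normalizer_iff.1 (mem_inf.1 hm).1 x).1 (hX x hx)
    have he : o * m * x * (o * m)⁻¹ = o * y * o⁻¹ := by rw [hy]; group
    have hoS : o * y * o⁻¹ ∈ (S : Subgroup G) := by
      rw [← he, ← hn' x hx]; exact hgX x hx
    have h1 : o * (y * o⁻¹ * y⁻¹) ∈ core (normalizer (W : Set G)) :=
      mul_mem ho (conj_mem_core (hSW hyS) (inv_mem ho))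
    have h2 := eq_one_of_two_odd S.2 (core_odd _) (mul_mem hoS (inv_mem hyS))
      (by simpa [mul_assoc] using h1)
    rw [he, mul_inv_eq_one.1 h2]
  -- `A = Ω₁Z(S)`
  let A : Subgroup G :=
    { carrier := {a | a ∈ (S : Subgroup G) ∧ a ∈ centralizer ((S : Subgroup G) : Set G) ∧ a * a = 1}
      one_mem' := ⟨one_mem _, one_mem _, one_mul 1⟩
      mul_mem' := fun {a b} ha hb => ⟨mul_mem ha.1 hb.1, mul_mem ha.2.1 hb.2.1, by
        have hc : b * a = a * b := mem_centralizer_iff.1 ha.2.1 b hb.1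
        calc a * b * (a * b) = a * (b * a) * b := by group
          _ = a * a * (b * b) := by rw [hc]; group
          _ = 1 := by rw [ha.2.2, hb.2.2, one_mul]⟩
      inv_mem' := fun {a} ha => ⟨inv_mem ha.1, inv_mem ha.2.1, by
        rw [← mul_inv_rev, ha.2.2, inv_one]⟩ }
  have hAS : A ≤ (S : Subgroup G) := fun a ha => ha.1
  have hcentral : (S : Subgroup G) ≤ centralizer (A : Set G) := fun s hs =>
    mem_centralizer_iff.2 fun a ha => (mem_centralizer_iff.1 ha.2.1 s hs).symm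
  have hA1 : A ≠ ⊥ := by
    haveI := S.2.center_nontrivial
    obtain ⟨k, hk0, hk⟩ := (S.2.to_subgroup (center ↥(S : Subgroup G))).nontrivial_iff_card.1 inferInstance
    obtain ⟨z, hz⟩ := exists_prime_orderOf_dvd_card' (G := center ↥(S : Subgroup G)) 2
      (hk ▸ dvd_pow_self 2 hk0.ne')
    have hz2 : z * z = 1 := by rw [← pow_two]; exact orderOf_dvd_iff_pow_eq_one.1 hz.dvd
    intro h
    have hm : ((z : ↥(S : Subgroup G)) : G) ∈ A :=
      ⟨z.1.2, mem_centralizer_iff.2 fun y hy =>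
          congrArg Subtype.val (mem_center_iff.1 z.2 ⟨y, hy⟩),
        congrArg (fun w : ↥(center ↥(S : Subgroup G)) => ((w : ↥(S : Subgroup G)) : G)) hz2⟩
    rw [h, mem_bot] at hm
    have hz1 : z = 1 := Subtype.ext (Subtype.ext hm)
    rw [hz1, orderOf_one] at hz
    omega
  have hAφ : ∀ φ : MulAut G, (∀ x ∈ (S : Subgroup G), φ x ∈ (S : Subgroup G)) →
      ∀ a ∈ A, φ a ∈ A := fun φ hφ a ha =>
    ⟨hφ a ha.1, mem_centralizer_iff.2 fun s hs => by
      have h1 : ((S : Subgroup G).map φ.toMonoidHom) = (S : Subgroup G) :=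
        eq_of_le_of_card_ge (by rintro _ ⟨y, hy, rfl⟩; exact hφ y hy)
          (Nat.card_congr ((S : Subgroup G).equivMapOfInjective _ φ.injective).toEquiv).le
      obtain ⟨y, hy, rfl⟩ : s ∈ (S : Subgroup G).map φ.toMonoidHom := h1.symm ▸ hs
      change φ y * φ a = φ a * φ y
      rw [← map_mul, ← map_mul, mem_centralizer_iff.1 ha.2.1 y hy],
      by rw [← map_mul, ha.2.2, map_one]⟩
  have hAi : D.Inv A := ⟨hAφ D.α hSi.1, hAφ D.τ hSi.2⟩
  have hnorm : normalizer ((S : Subgroup G) : Set G) ≤ normalizer (A : Set G) :=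
    le_normalizer_iff.2 fun n hn a ha =>
      hAφ (MulAut.conj n) (fun x hx => (mem_normalizer_iff.1 hn x).1 hx) a ha
  have hNA : normalizer (A : Set G) ≠ ⊤ := fun h => hns (hfin A hAS hA1 hAi h)
  have hCA : centralizer (A : Set G) ≠ ⊤ := fun h =>
    hNA (top_le_iff.1 (h.symm.le.trans (centralizer_le_normalizer _)))
  have hAC : A ≤ centralizer (A : Set G) := hAS.trans hcentral
  obtain ⟨hbase, -⟩ := (ih _ (D.inv_centralizer hAi) hCA).ambient S hcentral
  obtain ⟨-, hauto⟩ := (ih _ (D.inv_normalizer hAi) hNA).ambient S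
    (hcentral.trans (centralizer_le_normalizer _))
  have d : Data D S A :=
    { three := h3
      le := hAS
      central := hcentral
      sq := fun a ha => ha.2.2
      inv := hAi.1
      norm := hnorm
      base := hbase
      fusion := hfusion
      auto := fun n hn => by
        obtain ⟨k, hk, c, -, hc, rfl⟩ := hauto n hn
        refine ⟨c, hc, fun a ha => ?_⟩
        have hcN : c ∈ normalizer (A : Set G) := by
          have hkN : k ∈ normalizer (A : Set G) :=
            (sup_le (core_le _) (hcentral.trans (centralizer_le_normalizer _))) hk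
          have := mul_mem (inv_mem hkN) hn
          rwa [inv_mul_cancel_left] at this
        have hkC : k ∈ centralizer (A : Set G) := by
          refine sup_le (fun o ho => mem_centralizer_iff.2 fun b hb => ?_) hcentral hk
          have h1 : o * b * o⁻¹ * b⁻¹ ∈ A :=
            mul_mem ((mem_normalizer_iff.1 (core_le _ ho) b).1 hb) (inv_mem hb)
          have h2 : o * (b * o⁻¹ * b⁻¹) ∈ core (normalizer (A : Set G)) :=
            mul_mem ho (conj_mem_core (Subgroup.le_normalizer hb) (inv_mem ho))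
          have h3 := eq_one_of_two_odd S.2 (core_odd _) (hAS h1) (by simpa [mul_assoc] using h2)
          rw [mul_inv_eq_one, mul_inv_eq_iff_eq_mul] at h3
          exact h3.symm
        have h1 := mem_centralizer_iff.1 hkC (c * a * c⁻¹) ((mem_normalizer_iff.1 hcN a).1 ha)
        calc k * c * a * (k * c)⁻¹ = k * (c * a * c⁻¹) * k⁻¹ := by group
          _ = c * a * c⁻¹ := by rw [← h1, mul_inv_cancel_right] }
  -- the engine
  have hsplit := d.split ⊥ bot_le
  have hX : centralizer ((⊥ : Subgroup G) : Set G) = ⊤ := by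
    rw [eq_top_iff]
    intro x _
    exact mem_centralizer_iff.2 fun y hy => by rw [mem_bot.1 hy]; simp
  have hc : core (centralizer ((⊥ : Subgroup G) : Set G)) = ⊥ := by
    rw [eq_bot_iff]
    refine (PBasic.le_pPrimeCore ?_ ?_).trans hO.le
    · rw [hX]
      exact normalizer_eq_top_iff.1 (top_le_iff.1 (core_normalized ⊤))
    · rw [Nat.coprime_comm, Nat.prime_two.coprime_iff_not_dvd]
      exact core_odd _
  rw [Split, hc, bot_sup_eq, hX, inf_top_eq] at hsplit
  exact hns (hfin _ le_rfl hS1 hSi (top_le_iff.1 hsplit))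

end general

end Cfsg.Agent.FpfS3
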