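import Cfsg.Agent.Lib.FpfS3.Main

/-!
The solvable case and the induction.
-/

set_option autoImplicit false
set_option linter.style.haveILetI false
set_option linter.unusedSectionVars false

namespace Cfsg.Agent.FpfS3

open Subgroup Cfsg.Agent.ClosedAbelian

universe u

variable {G : Type u} [Group G] [Finite G] (D : S3Fpf.Act G) (h3 : ¬ 3 ∣ Nat.card G)

include h3 in
/-- Odd stable subgroups act on a stable normal elementary abelian 2-subgroup through fixed points. -/
theorem act_trivial {V P : Subgroup G} [V.Normal] (hV : Cfsg.IsElementaryAbelian 2 V)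
    (hVi : CoprimeHHS.Inv D.α V) {q : ℕ} [hq : Fact q.Prime] (hq2 : q ≠ 2) (hP : IsPGroup q ↥P)
    (hPi : CoprimeHHS.Inv D.α P) {t : G} (ht : t ∈ P) :
    t⁻¹ * D.α t ∈ centralizer (V : Set G) := by
  haveI : Fact (Nat.Prime 2) := ⟨Nat.prime_two⟩
  haveI : Fact (Nat.Prime 3) := ⟨Nat.prime_three⟩
  by_cases hq3 : q = 3
  · obtain ⟨k, hk⟩ := hP.exists_card_eq
    rcases Nat.eq_zero_or_pos k with hk0 | hk0
    · rw [hk0, pow_zero, card_eq_one] at hk
      rw [hk, mem_bot] at ht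
      simp [ht]
    · exact absurd ((hq3 ▸ dvd_pow_self q hk0.ne' : 3 ∣ q ^ k).trans
        (hk ▸ card_subgroup_dvd_card P)) h3
  haveI := hV.1
  letI : CommGroup V := { (inferInstance : Group V) with mul_comm := fun a b => mul_comm' a b }
  letI : Module (ZMod 2) (Additive V) := AddCommGroup.zmodModule fun v => by
    change Additive.ofMul ((Additive.toMul v) ^ 2) = 0
    rw [show (Additive.toMul v) ^ 2 = 1 from Subtype.ext (hV.2 _ (Additive.toMul v).2)]
    rfl
  let β : ↥P →* MulAut ↥V := MulAut.conjNormal.comp P.subtype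
  have hV2 : IsPGroup 2 ↥V := fun v => ⟨1, Subtype.ext (by rw [pow_one]; exact hV.2 v v.2)⟩
  obtain ⟨K, i1, i2, i3, U, i4, i5, i6, τ, T, hτ, hT, hsum, hc⟩ :=
    CoprimeFree.linearise (p := 2) (r := 3) V hVi.aut β hPi.aut ((cop D h3).sub hVi).pow_eq
      (fun w hw => Subtype.ext (twoEl_fixed D (congrArg Subtype.val hw)
        (TwoEl.of_group hV2 w.2)))
      (fun x => MulEquiv.ext fun v => Subtype.ext (by
        simp [β, MulAut.conjNormal_apply, map_mul, map_inv]))
  have h1 : τ (hPi.aut ⟨t, ht⟩) = τ ⟨t, ht⟩ :=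
    CoprimeFree.action_trivial hq2 hq3
      (CoprimeFree.natCast_ne_zero Nat.prime_three (by norm_num : (2 : ℕ) ≠ 3))
      (CoprimeFree.natCast_ne_zero hq.out (Ne.symm hq2)) hP τ T hPi.aut
      ((cop D h3).sub hPi).pow_eq hT hsum hc ⟨t, ht⟩
  have h2 := hτ _ _ h1
  refine mem_centralizer_iff.2 fun v hv => ?_
  have h4 : D.α t * v * (D.α t)⁻¹ = t * v * t⁻¹ :=
    congrArg (fun φ : MulAut ↥V => ((φ ⟨v, hv⟩ : ↥V) : G)) h2
  calc v * (t⁻¹ * D.α t) = t⁻¹ * (t * v * t⁻¹) * D.α t := by group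
    _ = t⁻¹ * (D.α t * v * (D.α t)⁻¹) * D.α t := by rw [h4]
    _ = t⁻¹ * D.α t * v := by group

include h3 in
/-- The structure in the solvable case with trivial odd core. -/
theorem good_of_solvable [Group.IsSolvable G] (hO : Cfsg.oddCore G = ⊥)
    (ih : ∀ (N : Subgroup G) [N.Normal] (hN : D.Inv N), N ≠ ⊥ → Good (quot D h3 N hN)) :
    Good D := by
  haveI : Fact (Nat.Prime 2) := ⟨Nat.prime_two⟩
  refine ⟨inferInstance, fun g => ?_⟩
  rcases subsingleton_or_nontrivial G with hs | hs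
  · exact ⟨1, one_mem _, 1, map_one _, Subsingleton.elim _ _⟩
  obtain ⟨V, -, hVn, hVi, hV1, hVmin⟩ := D.exists_minimal (N := ⊤) inferInstance D.inv_top top_ne_bot
  haveI := hVn
  have hVc := D.comm_of_minimal hVn hVi hV1 hVmin
  -- `V` is elementary abelian
  let L : Subgroup G :=
    { carrier := {v | v ∈ V ∧ Odd (orderOf v)}
      one_mem' := ⟨one_mem _, by simp⟩
      mul_mem' := fun {a b} ha hb => ⟨mul_mem ha.1 hb.1, (ha.2.mul hb.2).of_dvd_nat
        (Commute.orderOf_mul_dvd_mul_orderOf (hVc a ha.1 b hb.1))⟩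
      inv_mem' := fun {a} ha => ⟨inv_mem ha.1, by rw [orderOf_inv]; exact ha.2⟩ }
  have hLn : L.Normal := ⟨fun v hv x => ⟨hVn.conj_mem v hv.1 x, by
    have : orderOf (x * v * x⁻¹) = orderOf v := (MulAut.conj x).orderOf_eq v
    rw [this]; exact hv.2⟩⟩
  have hL : L = ⊥ := by
    rw [eq_bot_iff, ← hO]
    refine PBasic.le_pPrimeCore hLn ((PBasic.coprime_card_iff _).2 fun x hx => ?_)
    exact Nat.coprime_two_right.2 hx.2
  have hV2 : ∀ v ∈ V, TwoEl v := by
    intro v hv
    obtain ⟨a, b, hab, -, hb, ha, hob⟩ := exists_parts v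
    have : b ∈ L := ⟨zpowers_le.2 hv hb, hob⟩
    rw [hL, mem_bot] at this
    rwa [← hab, this, mul_one]
  let L2 : Subgroup G :=
    { carrier := {v | v ∈ V ∧ v * v = 1}
      one_mem' := ⟨one_mem _, one_mul 1⟩
      mul_mem' := fun {a b} ha hb => ⟨mul_mem ha.1 hb.1, by
        calc a * b * (a * b) = a * (b * a) * b := by group
          _ = a * a * (b * b) := by rw [hVc b hb.1 a ha.1]; group
          _ = 1 := by rw [ha.2, hb.2, one_mul]⟩
      inv_mem' := fun {a} ha => ⟨inv_mem ha.1, by rw [← mul_inv_rev, ha.2, inv_one]⟩ }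
  have hL2 : L2 = V := by
    refine (hVmin L2 ⟨fun v hv x => ⟨hVn.conj_mem v hv.1 x, by
      rw [show x * v * x⁻¹ * (x * v * x⁻¹) = x * (v * v) * x⁻¹ by group, hv.2, mul_one,
        mul_inv_cancel]⟩⟩
      ⟨fun v hv => ⟨hVi.1 v hv.1, by rw [← map_mul, hv.2, map_one]⟩,
        fun v hv => ⟨hVi.2 v hv.1, by rw [← map_mul, hv.2, map_one]⟩⟩ fun v hv => hv.1).resolve_left ?_
    intro hbot
    obtain ⟨k, hk0, hk⟩ : ∃ k, 0 < k ∧ Nat.card V = 2 ^ k := by
      have hp : IsPGroup 2 ↥V := fun v => by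
        obtain ⟨i, hi⟩ := hV2 v v.2
        exact ⟨i, Subtype.ext (by simpa using hi)⟩
      obtain ⟨k, hk⟩ := hp.exists_card_eq
      exact ⟨k, Nat.pos_of_ne_zero fun h => hV1 (card_eq_one.1 (by rw [hk, h, pow_zero])), hk⟩
    obtain ⟨z, hz⟩ := exists_prime_orderOf_dvd_card' (G := ↥V) 2 (hk ▸ dvd_pow_self 2 hk0.ne')
    have hz' : z * z = 1 := by rw [← pow_two]; exact orderOf_dvd_iff_pow_eq_one.1 hz.dvd
    have hm : (z : G) ∈ L2 := ⟨z.2, congrArg Subtype.val hz'⟩
    rw [hbot, mem_bot] at hm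
    rw [show z = 1 from Subtype.ext hm, orderOf_one] at hz
    omega
  have hVea : Cfsg.IsElementaryAbelian 2 V :=
    ⟨⟨⟨fun x y => Subtype.ext (hVc x x.2 y y.2)⟩⟩, fun v hv => by
      rw [← hL2] at hv; rw [pow_two]; exact hv.2⟩
  have hVp : IsPGroup 2 ↥V := fun v => ⟨1, Subtype.ext (by rw [pow_one]; exact hVea.2 v v.2)⟩
  -- the quotient
  set f := QuotientGroup.mk' V with hf
  have hfs : Function.Surjective f := QuotientGroup.mk'_surjective V
  set D' := quot D h3 V hVi with hD'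
  have hG' : Good D' := ih V hVi hV1
  haveI : (Cfsg.oddCore (G ⧸ V)).Normal := FittingCores.pPrimeCore_normal 2
  have hOi : D'.Inv (Cfsg.oddCore (G ⧸ V)) :=
    D'.inv_of_characteristic (PBasic.pPrimeCore_characteristic 2 _)
  set R := (Cfsg.oddCore (G ⧸ V)).comap f with hR
  haveI hRn : R.Normal := Subgroup.Normal.comap inferInstance f
  have hRi : CoprimeHHS.Inv D.α R := fun x hx => hOi.1 (f x) hx
  have hVR : V ≤ R := fun v hv => by
    rw [hR, mem_comap, hf, QuotientGroup.mk'_apply, (QuotientGroup.eq_one_iff v).2 hv]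
    exact one_mem _
  have hR2 : ∀ x ∈ R, TwoEl x → x ∈ V := by
    intro x hx ⟨i, hi⟩
    have hodd : Odd (orderOf (f x)) := Nat.coprime_two_right.1
      (((PBasic.pPrimeCore_coprime 2 (G ⧸ V))).coprime_dvd_left
        ((Cfsg.oddCore (G ⧸ V)).orderOf_dvd_natCard hx))
    have h2 : TwoEl (f x) := ⟨i, by rw [← map_pow, hi, map_one]⟩
    exact (QuotientGroup.eq_one_iff x).1 (h2.eq_one_of_odd hodd)
  -- odd elements of `R` centralizing `V` are trivial
  have hfaith : ∀ v ∈ R, v ∈ centralizer (V : Set G) → Odd (orderOf v) → v = 1 := by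
    intro v hvR hvC ho
    set C := R ⊓ centralizer (V : Set G) with hC
    obtain ⟨P⟩ : Nonempty (Sylow 2 ↥C) := inferInstance
    have hPV : ∀ x : ↥C, x ∈ (P : Subgroup ↥C) → (x : G) ∈ V := fun x hx => by
      obtain ⟨k, hk⟩ := P.2 ⟨x, hx⟩
      exact hR2 x (mem_inf.1 x.2).1 ⟨k, by
        have := congrArg Subtype.val (congrArg Subtype.val hk)
        simpa using this⟩
    have hnpc := Fusion.hasNormalPComplement_of_normalizer_le_centralizer (p := 2) P fun x _ =>
      mem_centralizer_iff.2 fun y hy =>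
        Subtype.ext (mem_centralizer_iff.1 (mem_inf.1 x.2).2 y (hPV y hy))
    have hodd : (⟨v, mem_inf.2 ⟨hvR, hvC⟩⟩ : ↥C) ∈ Cfsg.pResidual 2 _ :=
      PBasic.mem_pResidual (by rw [orderOf_mk]; exact Nat.coprime_two_right.2 ho)
    have hvc : v ∈ core C := ⟨⟨v, mem_inf.2 ⟨hvR, hvC⟩⟩,
      PBasic.le_pPrimeCore (PBasic.pResidual_normal_inst 2 _)
        ((PBasic.coprime_card_iff _).2 fun x hx => (PBasic.mem_pResidual_iff hnpc).1 hx) hodd, rfl⟩
    have hn : (core C).Normal := normalizer_eq_top_iff.1 (top_le_iff.1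
      ((normalizer_eq_top C).symm.le.trans (normalizer_le_normalizer_core C)))
    have hle : core C ≤ Cfsg.oddCore G := PBasic.le_pPrimeCore hn (by
      rw [Nat.coprime_comm, Nat.prime_two.coprime_iff_not_dvd]
      exact core_odd _)
    exact mem_bot.1 (hO ▸ hle hvc)
  -- `α` centralizes `R/V`
  have hRfix : R ≤ V ⊔ CoprimeHHS.fixed D.α := by
    have h := Cfsg.Agent.FittingCores.eq_top_of_forall_sylow_le (G := ↥R)
      (X := (V ⊔ CoprimeHHS.fixed D.α).subgroupOf R) (fun r hr => by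
        haveI := Fact.mk hr
        by_cases hr2 : r = 2
        · subst hr2
          obtain ⟨P⟩ : Nonempty (Sylow 2 ↥R) := inferInstance
          refine ⟨P, fun x hx => mem_subgroupOf.2 (mem_sup_left (hR2 x x.2 ?_))⟩
          obtain ⟨k, hk⟩ := P.2 ⟨x, hx⟩
          exact ⟨k, by
            have := congrArg Subtype.val (congrArg Subtype.val hk)
            simpa using this⟩
        · obtain ⟨P, -, hPR, hPi, hPp, hPc⟩ := (cop D h3).exists_sylow_ge r (U := ⊥) hRi bot_le
            IsPGroup.of_bot CoprimeHHS.Inv.bot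
          refine ⟨Sylow.ofCard (P.subgroupOf R) (by
            rw [Nat.card_congr (subgroupOfEquivOfLe hPR).toEquiv, hPc]), ?_⟩
          rw [Sylow.coe_ofCard]
          intro x hx
          refine mem_subgroupOf.2 (mem_sup_right ?_)
          have hxP : (x : G) ∈ P := hx
          have hc := act_trivial D h3 hVea hVi.1 hr2 hPp hPi hxP
          have hcP : (x : G)⁻¹ * D.α x ∈ P := mul_mem (inv_mem hxP) (hPi _ hxP)
          have h1 := hfaith _ (hPR hcP) hc (by
            obtain ⟨i, hi⟩ := IsPGroup.iff_orderOf.1 hPp ⟨_, hcP⟩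
            rw [orderOf_mk] at hi
            rw [hi]
            exact (hr.odd_of_ne_two hr2).pow)
          exact (inv_mul_eq_one.1 h1).symm)
    exact subgroupOf_eq_top.1 h
  have hRq : ∀ r ∈ R, f (D.α r) = f r := by
    have hle : V ⊔ CoprimeHHS.fixed D.α ≤ (CoprimeHHS.fixed D'.α).comap f := sup_le
      (fun v hv => by
        change D'.α (f v) = f v
        rw [hf, QuotientGroup.mk'_apply, (QuotientGroup.eq_one_iff v).2 hv, map_one])
      fun c hc => congrArg f hc
    exact fun r hr => hle (hRfix hr)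
  -- a stable Sylow subgroup
  obtain ⟨S, hSi⟩ := exists_sylow D h3
  have hVS : V ≤ (S : Subgroup G) := (PBasic.le_pCore hVn hVp).trans (PBasic.pCore_le_sylow S)
  have hRS : R ≤ normalizer ((S : Subgroup G) : Set G) := by
    refine le_normalizer_iff.2 fun r hr s hs => ?_
    obtain ⟨y, hy, rfl⟩ := exists_disp D S.2 hSi.1 hs
    have h1 : f (D.α y) * f r * (f (D.α y))⁻¹ = f y * f r * (f y)⁻¹ := by
      have := hRq _ (hRn.conj_mem r hr y)
      rw [map_mul, map_mul, map_inv, map_mul, map_mul, map_inv, map_mul, map_mul, map_inv,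
        hRq r hr] at this
      exact this
    have h2 : f (r * (y⁻¹ * D.α y) * r⁻¹ * (y⁻¹ * D.α y)⁻¹) = 1 := by
      simp only [map_mul, map_inv]
      calc f r * ((f y)⁻¹ * f (D.α y)) * (f r)⁻¹ * ((f y)⁻¹ * f (D.α y))⁻¹
          = (f y)⁻¹ * (f y * f r * (f y)⁻¹ * (f (D.α y) * f r * (f (D.α y))⁻¹)⁻¹) * f y := by group
        _ = 1 := by rw [h1]; group
    have h4 := mul_mem (hVS ((QuotientGroup.eq_one_iff _).1 h2))
      (mul_mem (inv_mem hy) (hSi.1 y hy))
    rwa [inv_mul_cancel_right] at h4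
  set M := R ⊔ (S : Subgroup G) with hM
  have hKM : (Cfsg.pPrimePCore 2 (G ⧸ V)).comap f ≤ M := by
    refine le_trans (comap_mono (core_le_sup (S.mapSurjective hfs))) ?_
    rw [Sylow.coe_mapSurjective,
      show Cfsg.oddCore (G ⧸ V) = R.map f from (map_comap_eq_self_of_surjective hfs _).symm,
      ← Subgroup.map_sup, comap_map_eq, hf, QuotientGroup.ker_mk']
    exact sup_le le_rfl (hVR.trans le_sup_left)
  have hMN : M ≤ normalizer ((S : Subgroup G) : Set G) := sup_le hRS Subgroup.le_normalizer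
  have hSn : (S : Subgroup G).Normal := ⟨fun s hs x => by
    have h1 : x * s * x⁻¹ ∈ normalizer ((S : Subgroup G) : Set G) :=
      hMN (hKM (hG'.two_mem (by
        obtain ⟨i, hi⟩ := (TwoEl.of_group S.2 hs).conj x
        exact ⟨i, by rw [← map_pow, hi, map_one]⟩)))
    have hP : IsPGroup 2 ↥((S : Subgroup G) ⊔ zpowers (x * s * x⁻¹)) :=
      IsPGroup.to_sup_of_normal_left' S.2 ((TwoEl.of_group S.2 hs).conj x).isPGroup
        (zpowers_le.2 h1)
    rw [← S.is_maximal' hP le_sup_left]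
    exact mem_sup_right (mem_zpowers _)⟩
  have hSK : (S : Subgroup G) ≤ Cfsg.pPrimePCore 2 G := by
    haveI : (Cfsg.pPrimeCore 2 G).Normal := FittingCores.pPrimeCore_normal 2
    exact map_le_iff_le_comap.1 (PBasic.le_pCore
      (hSn.map _ (QuotientGroup.mk'_surjective _)) (S.2.map _))
  obtain ⟨k, hk, c', hc', he⟩ := hG'.2 (f g)
  obtain ⟨c, hc, rfl⟩ := (cop D h3).exists_fixed_mk (N := V) hVi.1 hc'
  have hgM : g * c⁻¹ ∈ M := hKM (by
    rw [mem_comap, map_mul, map_inv, he]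
    change k * f c * (f c)⁻¹ ∈ _
    rwa [mul_inv_cancel_right])
  have hMS : M ≤ (S : Subgroup G) ⊔ CoprimeHHS.fixed D.α :=
    sup_le (hRfix.trans (sup_le_sup_right hVS _)) le_sup_left
  have h : g ∈ (S : Subgroup G) ⊔ CoprimeHHS.fixed D.α := by
    have := mul_mem (hMS hgM) (mem_sup_right (S := (S : Subgroup G)) (show c ∈ CoprimeHHS.fixed D.α from hc))
    rwa [inv_mul_cancel_right] at this
  haveI := hSn
  rw [← SetLike.mem_coe, Subgroup.normal_mul] at h
  obtain ⟨s, hs, d, hd, he'⟩ := h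
  exact ⟨s, hSK hs, d, hd, he'.symm⟩

/-- The theorem. -/
theorem good : ∀ (G : Type u) [Group G] [Finite G] (D : S3Fpf.Act G), ¬ 3 ∣ Nat.card G → Good D := by
  intro G _ _
  induction hn : Nat.card G using Nat.strong_induction_on generalizing G with
  | _ n ih =>
  subst hn
  intro D h3
  haveI : Fact (Nat.Prime 2) := ⟨Nat.prime_two⟩
  haveI hOn : (Cfsg.oddCore G).Normal := FittingCores.pPrimeCore_normal 2
  have hsub : ∀ (H : Subgroup G) (hH : D.Inv H), H ≠ ⊤ → Good (D.restrict H hH) := fun H hH hne =>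
    ih _ (lt_of_le_of_ne (card_le_card_group H) fun h => hne (eq_top_of_card_eq H h)) ↥H rfl _
      fun hd => h3 (hd.trans (card_subgroup_dvd_card H))
  have hquot : ∀ (N : Subgroup G) [N.Normal] (hN : D.Inv N), N ≠ ⊥ → Good (quot D h3 N hN) :=
    fun N _ hN hne => ih _ (by
      rw [card_eq_card_quotient_mul_card_subgroup N]
      exact lt_mul_of_one_lt_right Nat.card_pos (N.one_lt_card_iff_ne_bot.mpr hne)) (G ⧸ N) rfl _
      fun hd => h3 (hd.trans (card_quotient_dvd_card N))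
  have hOi : D.Inv (Cfsg.oddCore G) := D.inv_of_characteristic (PBasic.pPrimeCore_characteristic 2 G)
  by_cases hO : Cfsg.oddCore G = ⊥
  · suffices hsol : Group.IsSolvable G from good_of_solvable D h3 hO hquot
    by_cases hmin : ∀ N : Subgroup G, N.Normal → D.Inv N → N ≠ ⊥ → N = ⊤
    · exact solvable_of_simple D h3 hO hmin hsub
    · push Not at hmin
      obtain ⟨N, hNn, hNi, hN1, hNt⟩ := hmin
      haveI := hNn
      haveI := (hsub N hNi hNt).1
      haveI := (hquot N hNi hN1).1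
      exact Group.isSolvable_of_ker_le_range N.subtype (QuotientGroup.mk' N) (by simp)
  · haveI hOsol : Group.IsSolvable ↥(Cfsg.oddCore G) := OddChar.oddSolvable _ (by
      exact Nat.coprime_two_right.1 (PBasic.pPrimeCore_coprime 2 G))
    have hq := hquot _ hOi hO
    haveI := hq.1
    refine ⟨Group.isSolvable_of_ker_le_range (Cfsg.oddCore G).subtype
      (QuotientGroup.mk' (Cfsg.oddCore G)) (by simp), fun g => ?_⟩
    obtain ⟨k, hk, c', hc', he⟩ := hq.2 (QuotientGroup.mk g)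
    obtain ⟨c, hc, rfl⟩ := (cop D h3).exists_fixed_mk (N := Cfsg.oddCore G) hOi.1 hc'
    refine ⟨g * c⁻¹, ?_, c, hc, by group⟩
    change QuotientGroup.mk' (Cfsg.pPrimeCore 2 G) (g * c⁻¹) ∈ Cfsg.pCore 2 _
    refine OddOrder.FitUniq.pPrimePCore_le_pCore (PBasic.pPrimeCore_quotient_pPrimeCore 2 G) ?_
    have h1 : (QuotientGroup.mk (g * c⁻¹) : G ⧸ Cfsg.oddCore G) = k := by
      rw [QuotientGroup.mk_mul, QuotientGroup.mk_inv, he, mul_inv_cancel_right]
    change (QuotientGroup.mk (g * c⁻¹) : G ⧸ Cfsg.oddCore G) ∈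
      Cfsg.pPrimePCore 2 (G ⧸ Cfsg.oddCore G)
    rw [h1]
    exact hk

end Cfsg.Agent.FpfS3
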